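import Mathlib
import Cfsg.Agent.H67.Cross
import Cfsg.Agent.H51.Mult

/-!
# Perfect central extensions in cross characteristic: a bound for the kernel

`card_ker_mul_dvd`: `G` has a root group datum of characteristic `p` and is generated by its root groups,
`π : L → G` is a perfect central extension whose kernel has order prime to `p`, and the rank one subgroups `Lv X i`
have no central extensions by groups of order `r` (`NoCE p r`) for the primes `r` dividing `|ker π|`. Then
`|ker π| * |T|` divides `∏ |T ∩ Lv X i|`.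
-/

set_option autoImplicit false
set_option linter.style.haveILetI false

namespace Cfsg.Agent.H64.Cross

open CoxeterSystem Cfsg.Agent.ChevalleyStructure.CoxeterGeom Cfsg.Agent.Tits.Roots
  Cfsg.Agent.Nodes.Reps Cfsg.Agent.Nodes.BNOf Cfsg.Agent.Nodes.RGDLib Cfsg.Agent.Nodes.RGDLift
  Cfsg.Agent.KFacts.MulOdd.Inst Cfsg.Agent.KFacts.MulOdd.Shrink Cfsg.Agent.KFacts.MulOdd.Main
  Cfsg.Agent.H67 Cfsg.Agent.H67.Cross Cfsg.Agent.H51.Mult
open scoped commutatorElement Pointwise

universe u v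

variable {I W G L : Type*} [Fintype I] [DecidableEq I] [Group W] [Finite W] [Group G] {L : Type} [Group L] [Finite L]
  {M : CoxeterMatrix I} {cs : CoxeterSystem M W} {A : I → I → ℤ} {h : IsCartan M A} {p : ℕ} {T : Subgroup G}
  {n : I → G} {X : (I → ℤ) → Subgroup G} {π : L →* G}

/-- The order of the join of two subgroups, one of them normal. -/
theorem card_sup_dvd {G : Type*} [Group G] [Finite G] (H K : Subgroup G) [K.Normal] :
    Nat.card ↥(H ⊔ K) ∣ Nat.card H * Nat.card K := by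
  have h1 := Subgroup.relIndex_mul_relIndex (⊥ : Subgroup G) K (H ⊔ K) bot_le le_sup_right
  rw [Subgroup.relIndex_bot_left, Subgroup.relIndex_bot_left, Subgroup.relIndex_sup_right] at h1
  rw [← h1, mul_comm]
  exact mul_dvd_mul_right (Subgroup.relIndex_dvd_card K H) _

theorem card_biSup_dvd {G ι : Type*} [Group G] [Finite G] (H : ι → Subgroup G) (hH : ∀ i, (H i).Normal)
    (s : Finset ι) : Nat.card ↥(⨆ i ∈ s, H i) ∣ ∏ i ∈ s, Nat.card (H i) := by
  classical
  induction s using Finset.induction_on with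
  | empty => simp
  | insert a s ha ih =>
    rw [Finset.iSup_insert, Finset.prod_insert ha]
    have h1 : (⨆ i ∈ s, H i).Normal := Subgroup.biSup_normal (s : Set ι) H fun i _ => hH i
    exact (card_sup_dvd (H a) _).trans (mul_dvd_mul_left _ ih)

theorem card_iSup_dvd {G ι : Type*} [Group G] [Finite G] [Fintype ι] (H : ι → Subgroup G)
    (hH : ∀ i, (H i).Normal) : Nat.card ↥(⨆ i, H i) ∣ ∏ i, Nat.card (H i) := by
  have h1 := card_biSup_dvd H hH Finset.univ
  have h2 : (⨆ i ∈ Finset.univ, H i) = ⨆ i, H i := by simp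
  rwa [h2] at h1

omit [Finite L] in
/-- A subgroup of a perfect group which covers the quotient by a central subgroup is the whole group. -/
theorem eq_top_of_pce (hd : PCE π) {K : Subgroup L} (hK : K.map π = ⊤) : K = ⊤ := by
  rw [eq_top_iff, ← hd.perf, commutator_eq_closure, Subgroup.closure_le]
  rintro _ ⟨s, t, rfl⟩
  have key : ∀ s : L, ∃ s' ∈ K, ∃ z, π z = 1 ∧ s = s' * z := by
    intro s
    have h1 : π s ∈ K.map π := by rw [hK]; trivial
    obtain ⟨k, hk, hks⟩ := h1
    exact ⟨k, hk, k⁻¹ * s, by rw [map_mul, map_inv, hks, inv_mul_cancel], by group⟩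
  obtain ⟨s', hs', z, hz, rfl⟩ := key s
  obtain ⟨t', ht', w, hw, rfl⟩ := key t
  have hz' := hd.comm hz
  have hw' := hd.comm hw
  have h1 : ⁅s' * z, t' * w⁆ = ⁅s', t'⁆ := by
    rw [commutatorElement_def, commutatorElement_def]
    calc s' * z * (t' * w) * (s' * z)⁻¹ * (t' * w)⁻¹
        = s' * (z * (t' * w)) * z⁻¹ * s'⁻¹ * (w⁻¹ * t'⁻¹) := by group
      _ = s' * t' * (w * s'⁻¹) * w⁻¹ * t'⁻¹ := by rw [hz']; group
      _ = s' * t' * s'⁻¹ * t'⁻¹ := by rw [hw']; group
  rw [h1, commutatorElement_def]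
  exact mul_mem (mul_mem (mul_mem hs' ht') (inv_mem hs')) (inv_mem ht')

/-- The rank one subgroups of the extension meet the kernel trivially. -/
theorem inf_ker_eq (hp' : p.Prime) (hd : PCE π) (hp : (Nat.card π.ker).Coprime p) (R : RGD cs h p T n X)
    (rk : ∀ i, ∀ r : ℕ, r.Prime → r ∣ Nat.card π.ker → NoCE p r ↥(Lv X i)) (i : I) {x : L}
    (hx : x ∈ Lv (fun x => lft p π (X x)) i) (hπ : π x = 1) : x = 1 := by
  classical
  by_contra hx1
  haveI : Fact p.Prime := ⟨hp'⟩
  have hf := hd.cen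
  have hP1 := R.pgrp i
  have hP2 := R.pgrp' (isRoot_sr cs h i).neg
  set H : Subgroup L := Lv (fun x => lft p π (X x)) i with hH
  have hmap : H.map π = Lv X i := by
    rw [hH]
    unfold Lv
    rw [Subgroup.map_sup, map_lft hf hp hd.surj hP1, map_lft hf hp hd.surj hP2]
  have hmem : ∀ y : H, π y ∈ Lv X i := by
    intro y
    rw [← hmap]
    exact Subgroup.mem_map_of_mem π y.2
  let f : H →* ↥(Lv X i) := (π.comp H.subtype).codRestrict (Lv X i) hmem
  have hfπ : ∀ y : H, ((f y : ↥(Lv X i)) : G) = π (y : L) := fun _ => rfl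
  have hf1 : ∀ y : H, f y = 1 ↔ π (y : L) = 1 := by
    intro y
    rw [← Subtype.coe_inj]; rfl
  have hfs : Function.Surjective f := by
    rintro ⟨y, hy⟩
    rw [← hmap] at hy
    obtain ⟨x, hx, hxy⟩ := hy
    exact ⟨⟨x, hx⟩, Subtype.ext hxy⟩
  have hgen : Subgroup.closure {x : H | ∃ k : ℕ, x ^ p ^ k = 1} = ⊤ := by
    set K := Subgroup.closure {x : H | ∃ k : ℕ, x ^ p ^ k = 1} with hK
    have h1 : ∀ P : Subgroup G, lft p π P ≤ H → lft p π P ≤ K.map H.subtype := by
      intro P hP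
      conv_lhs => unfold lft
      rw [Subgroup.closure_le]
      rintro y ⟨hy, k, hk⟩
      have hyH : y ∈ H := hP (Subgroup.subset_closure ⟨hy, k, hk⟩)
      exact ⟨⟨y, hyH⟩, Subgroup.subset_closure ⟨k, Subtype.ext hk⟩, rfl⟩
    have h2 : H ≤ K.map H.subtype := sup_le (h1 _ le_sup_left) (h1 _ le_sup_right)
    rw [eq_top_iff]
    intro x _
    obtain ⟨z, hz, hzx⟩ := h2 x.2
    have : z = x := Subtype.ext hzx
    rwa [← this]
  -- the kernel of `f`
  have hkc : f.ker ≤ Subgroup.center H := by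
    intro y hy
    rw [Subgroup.mem_center_iff]
    intro g
    exact Subtype.ext (hd.comm ((hf1 y).1 hy) g).symm
  have hcomm : ∀ a b : f.ker, a * b = b * a := by
    intro a b
    exact Subtype.ext (Subtype.ext (hd.comm ((hf1 a.1).1 a.2) (b.1 : L)))
  have hdvd : Nat.card f.ker ∣ Nat.card π.ker := by
    let g : f.ker →* π.ker :=
      { toFun := fun y => ⟨((y : H) : L), (hf1 y.1).1 y.2⟩
        map_one' := rfl
        map_mul' := fun _ _ => rfl }
    exact Subgroup.card_dvd_of_injective g fun a b hab =>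
      Subtype.ext (Subtype.ext (congrArg (fun z : π.ker => (z : L)) hab))
  have hne : Nat.card f.ker ≠ 1 := by
    intro h1
    haveI := (Nat.card_eq_one_iff_unique.1 h1).1
    have h2 : (⟨⟨x, hx⟩, (hf1 _).2 hπ⟩ : f.ker) = 1 := Subsingleton.elim _ _
    exact hx1 (congrArg (fun z : f.ker => ((z : H) : L)) h2)
  obtain ⟨r, hr, hrd⟩ := Nat.exists_prime_and_dvd hne
  obtain ⟨B, hB⟩ := exists_index_eq hcomm hr hrd
  -- the quotient by the subgroup of index `r`
  set N : Subgroup H := B.map f.ker.subtype with hN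
  have hNle : N ≤ f.ker := Subgroup.map_subtype_le B
  haveI : N.Normal := normal_of_le_center (hNle.trans hkc)
  let q := QuotientGroup.mk' N
  have hq : Function.Surjective q := QuotientGroup.mk'_surjective N
  let ρ : H ⧸ N →* ↥(Lv X i) := QuotientGroup.lift N f hNle
  have hρ : ∀ y, ρ (q y) = f y := fun _ => rfl
  have hρs : Function.Surjective ρ := by
    intro y
    obtain ⟨x, rfl⟩ := hfs y
    exact ⟨q x, rfl⟩
  have hcardρ : Nat.card ρ.ker = r := by
    have hc := card_ker_of_quot (π := f) (q := q) hq hρ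
    have hB' : Nat.card q.ker = Nat.card B := by
      rw [show q.ker = N from QuotientGroup.ker_mk' N]
      exact Nat.card_congr (B.equivMapOfInjective f.ker.subtype f.ker.subtype_injective).symm.toEquiv
    have hB2 := B.card_mul_index
    rw [hB] at hB2
    have hBpos : 0 < Nat.card B := Nat.card_pos
    rw [hB', ← hB2, mul_comm] at hc
    exact (Nat.eq_of_mul_eq_mul_right hBpos hc).symm
  haveI : Fact r.Prime := ⟨hr⟩
  -- a generator of the kernel
  obtain ⟨⟨c, hc⟩, hcne⟩ : ∃ c : ρ.ker, c ≠ 1 := by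
    by_contra hcon
    push Not at hcon
    have : Nat.card ρ.ker = 1 := by
      rw [Nat.card_eq_one_iff_unique]
      exact ⟨⟨fun a b => by rw [hcon a, hcon b]⟩, ⟨1⟩⟩
    rw [hcardρ] at this
    exact hr.one_lt.ne' this
  have hc1 : c ≠ 1 := fun h0 => hcne (Subtype.ext h0)
  have hcr : c ^ r = 1 := by
    have h1 : (⟨c, hc⟩ : ρ.ker) ^ Nat.card ρ.ker = 1 := pow_card_eq_one'
    rw [hcardρ] at h1
    exact congrArg Subtype.val h1
  have hzk : Subgroup.zpowers c = ρ.ker := by
    refine Subgroup.eq_of_le_of_card_ge (by rw [Subgroup.zpowers_le]; exact hc) ?_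
    rw [hcardρ, Nat.card_zpowers, orderOf_eq_prime hcr hc1]
  have hρcen : ∀ z ∈ ρ.ker, ∀ y, z * y = y * z := by
    intro z hz y
    obtain ⟨z, rfl⟩ := hq z
    obtain ⟨y, rfl⟩ := hq y
    have h1 : z ∈ f.ker := hz
    rw [← map_mul, ← map_mul, Subgroup.mem_center_iff.1 (hkc h1) y]
  have hgen' : Subgroup.closure {x : H ⧸ N | ∃ k : ℕ, x ^ p ^ k = 1} = ⊤ := by
    rw [eq_top_iff]
    have h1 : (⊤ : Subgroup (H ⧸ N)) = (⊤ : Subgroup H).map q := (Subgroup.map_top_of_surjective q hq).symm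
    rw [h1, ← hgen, MonoidHom.map_closure]
    apply Subgroup.closure_mono
    rintro _ ⟨y, ⟨k, hk⟩, rfl⟩
    exact ⟨k, by rw [← map_pow, hk, map_one]⟩
  exact rk i r hr (hrd.trans hdvd) (H ⧸ N) ρ c hρs hc1 hcr (hρcen c hc)
    (fun y => by rw [hzk]; rfl) hgen'

/-- **The bound for the kernel** of a perfect central extension in cross characteristic. -/
theorem card_ker_mul_dvd (hp' : p.Prime) (hd : PCE π) (hp : (Nat.card π.ker).Coprime p) (R : RGD cs h p T n X)
    (gen : G1 cs h X = ⊤)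
    (rk : ∀ i, ∀ r : ℕ, r.Prime → r ∣ Nat.card π.ker → NoCE p r ↥(Lv X i)) :
    Nat.card π.ker * Nat.card T ∣ ∏ i, Nat.card ↥(T ⊓ Lv X i) := by
  haveI : Fact p.Prime := ⟨hp'⟩
  have hf := hd.cen
  obtain ⟨g, hg⟩ := hd.surj.hasRightInverse
  have R' := rgd_lift hf hp hd.surj R (n := fun i => g (n i)) (fun i => hg (n i))
  set T' : Subgroup L := T.comap π with hT'
  set X' : (I → ℤ) → Subgroup L := fun x => lft p π (X x) with hX'
  -- generation
  have hmapG : (G1 cs h X').map π = ⊤ := by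
    rw [← gen]
    unfold G1 RGD.Sup
    rw [Subgroup.map_iSup]
    exact iSup_congr fun z => map_lft hf hp hd.surj (R.pgrp' z.2)
  have hG1 : G1 cs h X' = ⊤ := eq_top_of_pce hd hmapG
  have hle := torus_le R' hG1
  -- the orders
  have hcard1 : Nat.card T' ∣ ∏ i, Nat.card (Hv T' X' i) := by
    have h1 : ∀ i, ((Hv T' X' i).subgroupOf T').Normal := by
      intro i
      refine ⟨fun x hx t => ?_⟩
      rw [Subgroup.mem_subgroupOf] at hx ⊢
      refine Subgroup.mem_inf.2 ⟨(t * x * t⁻¹).2, ?_⟩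
      have h2 := cj_t_Lv R' t.2 i
      have h3 : ((t * x * t⁻¹ : T') : L) ∈ cj (t : L) (Lv X' i) := conj_mem_cj.2 (Subgroup.mem_inf.1 hx).2
      rwa [h2] at h3
    have h2 : (⨆ i, (Hv T' X' i).subgroupOf T') = ⊤ := by
      rw [← iSup_subgroupOf (Hv T' X') (fun i => inf_le_left), Subgroup.subgroupOf_eq_top]
      exact hle
    have h3 := card_iSup_dvd _ h1
    rw [h2, Subgroup.card_top] at h3
    refine h3.trans (dvd_of_eq (Finset.prod_congr rfl fun i _ => ?_))
    exact Nat.card_congr (Subgroup.subgroupOfEquivOfLe (inf_le_left)).toEquiv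
  have hcard2 : ∀ i, Nat.card (Hv T' X' i) ∣ Nat.card ↥(T ⊓ Lv X i) := by
    intro i
    have hmem : ∀ x : Hv T' X' i, π x ∈ T ⊓ Lv X i := by
      intro x
      refine Subgroup.mem_inf.2 ⟨(Subgroup.mem_inf.1 x.2).1, ?_⟩
      have h1 : (Lv X' i).map π = Lv X i := by
        unfold Lv
        rw [Subgroup.map_sup, map_lft hf hp hd.surj (R.pgrp i),
          map_lft hf hp hd.surj (R.pgrp' (isRoot_sr cs h i).neg)]
      rw [← h1]
      exact Subgroup.mem_map_of_mem π (Subgroup.mem_inf.1 x.2).2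
    haveI : Finite G := Finite.of_surjective π hd.surj
    refine Subgroup.card_dvd_of_injective ((π.comp (Hv T' X' i).subtype).codRestrict (T ⊓ Lv X i) hmem) ?_
    intro x y hxy
    have h1 : π x = π y := congrArg (fun z : ↥(T ⊓ Lv X i) => (z : G)) hxy
    have h2 : π ((x : L)⁻¹ * y) = 1 := by rw [map_mul, map_inv, h1, inv_mul_cancel]
    have h3 : (x : L)⁻¹ * y = 1 :=
      inf_ker_eq hp' hd hp R rk i (mul_mem (inv_mem (Subgroup.mem_inf.1 x.2).2) (Subgroup.mem_inf.1 y.2).2) h2
    exact Subtype.ext (inv_mul_eq_one.1 h3)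
  have hcard3 : Nat.card T' = Nat.card π.ker * Nat.card T := by
    let ρ : T' →* T := (π.comp T'.subtype).codRestrict T fun x => x.2
    have hρs : Function.Surjective ρ := by
      rintro ⟨t, ht⟩
      refine ⟨⟨g t, ?_⟩, Subtype.ext (hg t)⟩
      show π (g t) ∈ T
      rw [hg t]; exact ht
    have h1 := Subgroup.card_eq_card_quotient_mul_card_subgroup ρ.ker
    rw [Nat.card_congr (QuotientGroup.quotientKerEquivOfSurjective ρ hρs).toEquiv] at h1
    rw [h1, mul_comm]
    congr 1
    refine Nat.card_congr ⟨fun x => ⟨x.1.1, ?_⟩, fun x => ⟨⟨x.1, ?_⟩, ?_⟩, fun _ => rfl, fun _ => rfl⟩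
    · exact congrArg (fun z : T => (z : G)) x.2
    · show π x.1 ∈ T
      rw [MonoidHom.mem_ker.1 x.2]; exact one_mem T
    · exact Subtype.ext x.2
  rw [← hcard3]
  exact hcard1.trans (Finset.prod_dvd_prod_of_dvd _ _ fun i _ => hcard2 i)

end Cfsg.Agent.H64.Cross
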