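import Mathlib
import Cfsg.Agent.TypeD4Two.FieldIso

/-!
# Chevalley groups over isomorphic fields; reduction to `Type`
-/

set_option autoImplicit false

namespace Cfsg.Agent.H64.ChevField

open Cfsg.Lie Cfsg.Agent.TypeD4Two.FieldIso

universe u

section

variable {F K : Type*} [Field F] [Field K] (σ : F ≃+* K) (D : ChevalleyDatum)

theorem group_map : (D.group F).map (Matrix.GeneralLinearGroup.map (n := D.Idx) σ.toRingHom) = D.group K := by
  unfold ChevalleyDatum.group
  rw [MonoidHom.map_closure]
  congr 1
  ext g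
  constructor
  · rintro ⟨g, ⟨r, t, hg⟩, rfl⟩
    refine ⟨r, σ t, ?_⟩
    rw [← xMat_map, ← hg]
    rfl
  · rintro ⟨r, t, hg⟩
    refine ⟨Matrix.GeneralLinearGroup.map (n := D.Idx) σ.symm.toRingHom g, ⟨r, σ.symm t, ?_⟩, ?_⟩
    · have h1 : ((Matrix.GeneralLinearGroup.map (n := D.Idx) σ.symm.toRingHom g : GL D.Idx F) : Matrix D.Idx D.Idx F) =
        (g : Matrix D.Idx D.Idx K).map σ.symm := rfl
      rw [h1, hg]
      exact xMat_map σ.symm D r t
    · apply Units.ext
      ext i j
      change σ (σ.symm ((g : Matrix D.Idx D.Idx K) i j)) = _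
      rw [σ.apply_symm_apply]

/-- Chevalley groups over isomorphic fields -/
noncomputable def groupCongr : D.group F ≃* D.group K :=
  ((D.group F).equivMapOfInjective _ (map_injective' σ D)).trans (MulEquiv.subgroupCongr (group_map σ D))

end

/-- A finite field is isomorphic to a field in `Type`. -/
theorem exists_field (F : Type u) [Field F] [Finite F] : ∃ (K : Type) (_ : Field K) (_ : Finite K),
    Nonempty (F ≃+* K) := by
  have : Small.{0} F := by
    obtain ⟨n, ⟨e⟩⟩ := Finite.exists_equiv_fin F
    exact small_map e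
  exact ⟨Shrink.{0} F, inferInstance, Finite.of_equiv F (equivShrink F), ⟨(Shrink.ringEquiv F).symm⟩⟩

end Cfsg.Agent.H64.ChevField
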