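import Cfsg.Agent.H64.AsmP
import Cfsg.Agent.KFacts.Mult.Chev

/-!
# Odd defining characteristic: no perfect central extensions by `p`-groups of the Chevalley groups `D.group K`

* `noCov_F4`, `noCov_E6`, `noCov_E7`, `noCov_E8` : `K` of odd characteristic `p`;
* `noCov_G2` : `K` of odd characteristic `p`, `|K| ≥ 5`.
-/

set_option autoImplicit false
set_option linter.unusedSectionVars false

namespace Cfsg.Agent.H64.ChevP

open Subgroup Cfsg.Agent.H64.AsmP Cfsg.Agent.H51.Mult
open Cfsg.Agent.KFacts.Mult.RGDW (Sep Free GG_eq_top_of_G1)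
open CoxeterSystem Cfsg.Agent.ChevalleyStructure.CoxeterGeom Cfsg.Agent.Tits.Roots Cfsg.Agent.Tits.Core
  Cfsg.Agent.Tits.RootComb Cfsg.Agent.Nodes.Comb Cfsg.Agent.Nodes.Reps Cfsg.Agent.Nodes.BNOf
open Cfsg.Lie Cfsg.Agent.ChevalleyStructure Cfsg.Agent.ChevalleyStructure.Elts
  Cfsg.Agent.ChevalleyStructure.RootVec Cfsg.Agent.ChevalleyStructure.RootVecTab
  Cfsg.Agent.ChevalleyStructure.NPerm Cfsg.Agent.ChevalleyStructure.CoxeterGeomTypes
  Cfsg.Agent.Nodes.RGDChev Cfsg.Agent.KFacts.Mult.Chev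
open scoped commutatorElement

universe u

/-! ### Tables -/

/-- `x_z` is a commutator of `x_r`, `x_s` (up to a factor `±1`, `±2`), both commuting with `X_x` -/
def commPB (D : ChevalleyDatum) (x z r s : ℕ) : Bool :=
  decide (r < D.nroots) && decide (s < D.nroots) &&
  s != r && s != D.neg r && x != r && x != D.neg r && x != s && x != D.neg s &&
  (match D.commTerms r s with
   | [(v, C, 1, 1)] => v == z && (C.natAbs == 1 || C.natAbs == 2)
   | _ => false) && (D.commTerms r x).isEmpty && (D.commTerms s x).isEmpty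

/-- separation of `s` from `x` by a sum of two coroots -/
def sepPB (D : ChevalleyDatum) (P0 P1 : ℤ → Bool) (as : List ℤ) (x s : ℕ) : Bool :=
  (List.range D.rank).any fun i => (List.range D.rank).any fun j => as.any fun a => as.any fun c =>
    P0 (a * D.cartan i x + c * D.cartan j x) && P1 (a * D.cartan i s + c * D.cartan j s)

/-- the complete check -/
def chkP (D : ChevalleyDatum) (P0 P1 : ℤ → Bool) (as : List ℤ) (w : List (ℕ × ℕ × ℕ × ℕ)) : Bool :=
  (List.range D.rank).all fun k => (List.range D.nroots).all fun s =>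
    s == D.simple k || s == D.neg (D.simple k) || sepPB D P0 P1 as (D.simple k) s ||
      w.any fun v => v.1 == k && v.2.1 == s && commPB D (D.simple k) s v.2.2.1 v.2.2.2

/-- witnesses for `commPB` at the simple roots -/
def commAllP (D : ChevalleyDatum) (w : List (ℕ × ℕ)) : Bool :=
  (List.range D.rank).all fun k => commPB D (D.simple k) (D.simple k) (w.getD k (0, 0)).1 (w.getD k (0, 0)).2

/-- even -/
def Ev (z : ℤ) : Bool := z % 2 == 0
/-- odd -/
def Od (z : ℤ) : Bool := z % 2 == 1
/-- zero -/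
def Ze (z : ℤ) : Bool := z == 0
/-- `±1, ±2, ±3` -/
def Sm (z : ℤ) : Bool := z.natAbs == 1 || z.natAbs == 2 || z.natAbs == 3

theorem chk_F4 : chkP chevF4 Ev Od [0, 1]
    [(2, 0, 3, 18), (2, 6, 3, 29), (2, 17, 7, 36), (2, 30, 11, 40), (2, 41, 18, 44), (2, 47, 29, 44),
     (3, 2, 3, 20), (3, 4, 3, 27), (3, 15, 7, 34), (3, 32, 13, 40), (3, 43, 20, 44), (3, 45, 27, 44)] = true := by
  decide +kernel
theorem chk_E6 : chkP chevE6 Ev Od [0, 1] [] = true := by decide +kernel
theorem chk_E7 : chkP chevE7 Ev Od [0, 1] [] = true := by decide +kernel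
theorem chk_E8 : chkP chevE8 Ev Od [0, 1] [] = true := by decide +kernel
theorem chk_G2 : chkP chevG2 Ze Sm [0, 1, -1, 2, -2, 3, -3] [] = true := by decide +kernel

theorem comm_F4 : commAllP chevF4 [(7, 44), (8, 40), (2, 46), (1, 47)] = true := by decide +kernel
theorem comm_E6 : commAllP chevE6 [(16, 66), (1, 71), (5, 69), (2, 70), (3, 69), (4, 68)] = true := by
  decide +kernel
theorem comm_E7 : commAllP chevE7 [(1, 125), (7, 122), (2, 124), (3, 123), (4, 122), (5, 121), (6, 120)] = true := by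
  decide +kernel
theorem comm_E8 : commAllP chevE8
    [(14, 233), (7, 234), (6, 234), (5, 235), (4, 236), (3, 237), (2, 238), (1, 239)] = true := by
  decide +kernel
theorem comm_G2 : commPB chevG2 (chevG2.simple 1) (chevG2.simple 1) 1 11 = true := by decide +kernel

section Main

variable {D : ChevalleyDatum} {l : ℕ} {M : CoxeterMatrix (Fin l)} (hp : IsType D l M)
  {K : Type u} [Field K]

include hp

/-- `X_z ≤ C(X_x)'` -/
theorem lcom_of_commPB (h2 : (2 : K) ≠ 0) {x z r s : ℕ} (hx : x < D.nroots) (h : commPB D x z r s = true) :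
    LCom ((D.rootSubgroup K x).subgroupOf (D.group K)) ((D.rootSubgroup K z).subgroupOf (D.group K)) := by
  unfold commPB at h
  simp only [Bool.and_eq_true, decide_eq_true_eq, bne_iff_ne, ne_eq] at h
  obtain ⟨⟨⟨⟨⟨⟨⟨⟨⟨⟨hr, hs⟩, h1⟩, h2'⟩, h3⟩, h4⟩, h5⟩, h6⟩, h7⟩, h8⟩, h9⟩ := h
  apply LCom.of_le_commutator
  rintro ⟨g, hg⟩ hgz
  rw [mem_subgroupOf, mem_rootSubgroup_iff hp.inList] at hgz
  obtain ⟨a, ha⟩ := hgz
  -- the commutator terms
  obtain ⟨C, hC, hw⟩ : ∃ C : ℤ, ((C : ℤ) : K) ≠ 0 ∧ D.commTerms r s = [(z, C, 1, 1)] := by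
    revert h7
    split
    · rename_i v C hc
      intro h7
      rw [Bool.and_eq_true, beq_iff_eq, Bool.or_eq_true, beq_iff_eq, beq_iff_eq] at h7
      refine ⟨C, ?_, by rw [hc, h7.1]⟩
      rcases h7.2 with h10 | h10 <;> rcases Int.natAbs_eq_iff.1 h10 with h | h <;> rw [h]
      · simp
      · simp
      · exact_mod_cast h2
      · simpa using h2
    · intro h7
      exact absurd h7 (by decide)
  have hcw : ∀ u : K, ⁅(xG hp.inList s u)⁻¹, (xG hp.inList r (-1))⁻¹⁆ = xG hp.inList z ((C : K) * u) := by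
    intro u
    rw [comm_xG hp hr hs h1 h2']
    unfold ChevalleyDatum.commWord
    rw [hw]
    simp only [List.map_cons, List.map_nil, wordG_cons, wordG_nil, mul_one, _root_.neg_neg, pow_one]
  have hsz : ∀ u v : K, xG hp.inList x v * xG hp.inList s u = xG hp.inList s u * xG hp.inList x v := fun u v =>
    commute_of_empty hp hs hx h5 h6 h9 u v
  have hrz : ∀ u v : K, xG hp.inList x v * xG hp.inList r u = xG hp.inList r u * xG hp.inList x v := fun u v =>
    commute_of_empty hp hr hx h3 h4 h8 u v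
  have hmem : ∀ (v : ℕ) (t : K), xG hp.inList v t ∈ D.group K := fun v t => xG_mem_group hp.inList v t
  have key : (⟨g, hg⟩ : D.group K) =
      ⁅(⟨xG hp.inList s (((C : ℤ) : K)⁻¹ * a), hmem _ _⟩ : D.group K)⁻¹,
        (⟨xG hp.inList r (-1), hmem _ _⟩ : D.group K)⁻¹⁆ := by
    apply Subtype.ext
    have e1 : ((⁅(⟨xG hp.inList s (((C : ℤ) : K)⁻¹ * a), hmem _ _⟩ : D.group K)⁻¹,
        (⟨xG hp.inList r (-1), hmem _ _⟩ : D.group K)⁻¹⁆ : D.group K) : GL D.Idx K) =
        ⁅(xG hp.inList s (((C : ℤ) : K)⁻¹ * a))⁻¹, (xG hp.inList r (-1))⁻¹⁆ := rfl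
    rw [e1, hcw, ← mul_assoc, mul_inv_cancel₀ hC, one_mul, ← ha]
  rw [key]
  refine commutator_mem_commutator (inv_mem ?_) (inv_mem ?_)
  · rw [mem_centralizer_iff]
    rintro ⟨y, hy⟩ hyz
    rw [SetLike.mem_coe, mem_subgroupOf, mem_rootSubgroup_iff hp.inList] at hyz
    obtain ⟨v, hv⟩ := hyz
    apply Subtype.ext
    show y * xG hp.inList s _ = xG hp.inList s _ * y
    have hv' : y = xG hp.inList x v := hv
    rw [hv', hsz]
  · rw [mem_centralizer_iff]
    rintro ⟨y, hy⟩ hyz
    rw [SetLike.mem_coe, mem_subgroupOf, mem_rootSubgroup_iff hp.inList] at hyz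
    obtain ⟨v, hv⟩ := hyz
    apply Subtype.ext
    show y * xG hp.inList r _ = xG hp.inList r _ * y
    have hv' : y = xG hp.inList x v := hv
    rw [hv', hrz]

theorem noCov_of_checks [Finite K] {p : ℕ} [CharP K p] (hp2 : p ≠ 2) {b : K} (hb0 : b ≠ 0)
    {P0 P1 : ℤ → Bool} (hP0 : ∀ z, P0 z = true → b ^ z = 1) (hP1 : ∀ z, P1 z = true → b ^ z ≠ 1)
    {as : List ℤ} {w : List (ℕ × ℕ × ℕ × ℕ)} (hchk : chkP D P0 P1 as w = true)
    (hfree : ∀ i : Fin l, ∃ j, j < D.rank ∧ ∃ z : ℤ, b ^ (z * D.cartan j (D.simple i)) ≠ 1)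
    (hab : ∀ i : Fin l, AbPre ((D.rootSubgroup K (D.simple i)).subgroupOf (D.group K))) :
    NoCov p ↥(D.group K) := by
  have hpp : p.Prime := CharP.char_is_prime K p
  have : Fact p.Prime := ⟨hpp⟩
  have h2 : (2 : K) ≠ 0 := by
    intro h0
    have h1 : ((2 : ℕ) : K) = 0 := by exact_mod_cast h0
    rw [CharP.cast_eq_zero_iff K p] at h1
    exact hp2 ((Nat.prime_dvd_prime_iff_eq hpp Nat.prime_two).1 h1)
  set cs := M.toCoxeterSystem with hcs
  have : Finite M.Group := finite_W hp cs
  have R := rgd (K := K) hp cs p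
  have hz0 : ∀ z : ℤ, b ^ z ≠ 0 := fun z => zpow_ne_zero z hb0
  have hsl : ∀ i : Fin l, D.simple i < D.nroots := fun i => RootVec.simple_lt hp.checked (lt_rank hp i)
  set T' : Subgroup (D.group K) := (D.diagonalSubgroup K).subgroupOf (D.group K) with hT'
  have hmemT : ∀ (i : Fin l) (z : ℤ), (⟨hG hp.inList (D.simple i) (b ^ z), hG_mem_group hp.inList _ _⟩ : D.group K) ∈ T' :=
    fun i z => hG_mem_diagonal hp.inList (hsl i) (hz0 z)
  have hact : ∀ (i : Fin l) (z : ℤ) {s : ℕ} (_ : s < D.nroots) (t : K),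
      hG hp.inList (D.simple i) (b ^ z) * xG hp.inList s t * (hG hp.inList (D.simple i) (b ^ z))⁻¹ =
        xG hp.inList s (b ^ (z * D.cartan i s) * t) := by
    intro i z s hs t
    rw [BruhatSplit.hG_simple_conj hp.inList (lt_rank hp i) hs (hz0 z), zpow_mul]
  have hX : ∀ {s : ℕ} (_ : s < D.nroots) (v : D.group K), v ∈ (XV D l K (vec D l s)).subgroupOf (D.group K) →
      ∃ t, (v : GL D.Idx K) = xG hp.inList s t := by
    intro s hs v hv
    rw [mem_subgroupOf, XV_vec hp K hs, mem_rootSubgroup_iff hp.inList] at hv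
    exact hv
  refine noCov_of_simple R hpp (GG_eq_top_of_G1 (G1_eq_top hp cs)) (T' := T') le_rfl ?_ R.nsys.norm ?_ ?_ ?_
  · rintro ⟨g, hg⟩ hgT ⟨k, hk⟩ hkT
    exact Subtype.ext (diag_comm hp.inList hgT hkT)
  · -- separation
    intro i y hy hne hne'
    obtain ⟨s, hs, rfl⟩ := (isRoot_iff hp cs y).1 hy
    have hs1 : s ≠ D.simple i := fun h0 => hne (by rw [h0, vec_simple hp])
    have hs2 : s ≠ D.neg (D.simple i) := fun h0 => hne' (by rw [h0, vec_neg hp (hsl i), vec_simple hp])
    have h1 := hchk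
    unfold chkP at h1
    rw [List.all_eq_true] at h1
    have h3 := h1 i (List.mem_range.2 (lt_rank hp i))
    rw [List.all_eq_true] at h3
    have h4 := h3 s (List.mem_range.2 hs)
    rw [Bool.or_eq_true, Bool.or_eq_true, Bool.or_eq_true, beq_iff_eq, beq_iff_eq] at h4
    rcases h4 with ((h4 | h4) | h4) | h4
    · exact absurd h4 hs1
    · exact absurd h4 hs2
    · right
      unfold sepPB at h4
      simp only [List.any_eq_true, List.mem_range, Bool.and_eq_true] at h4
      obtain ⟨i₁, hi₁, j₁, hj₁, a, -, c, -, h5, h6⟩ := h4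
      set i' : Fin l := ⟨i₁, by rw [← hp.rank_eq]; exact hi₁⟩ with hi'
      set j' : Fin l := ⟨j₁, by rw [← hp.rank_eq]; exact hj₁⟩ with hj'
      -- the separating element
      set g1 : D.group K := ⟨hG hp.inList (D.simple i') (b ^ a), hG_mem_group hp.inList _ _⟩ with hg1
      set g2 : D.group K := ⟨hG hp.inList (D.simple j') (b ^ c), hG_mem_group hp.inList _ _⟩ with hg2
      have hconj : ∀ {s : ℕ} (_ : s < D.nroots) (t : K), ((g1 * g2 : D.group K) : GL D.Idx K) * xG hp.inList s t *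
          ((g1 * g2 : D.group K) : GL D.Idx K)⁻¹ =
          xG hp.inList s (b ^ (a * D.cartan i₁ s + c * D.cartan j₁ s) * t) := by
        intro s hs t
        have e1 := hact i' a hs
        have e2 := hact j' c hs
        have e3 : ((g1 * g2 : D.group K) : GL D.Idx K) * xG hp.inList s t * ((g1 * g2 : D.group K) : GL D.Idx K)⁻¹ =
            (g1 : GL D.Idx K) * ((g2 : GL D.Idx K) * xG hp.inList s t * (g2 : GL D.Idx K)⁻¹) * (g1 : GL D.Idx K)⁻¹ := by
          rw [Subgroup.coe_mul]; group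
        rw [e3]
        have e4 : (g2 : GL D.Idx K) * xG hp.inList s t * (g2 : GL D.Idx K)⁻¹ = _ := e2 t
        rw [e4]
        have e6 : (g1 : GL D.Idx K) * xG hp.inList s (b ^ (c * D.cartan j' s) * t) *
          (g1 : GL D.Idx K)⁻¹ = _ := e1 _
        rw [e6, ← mul_assoc, ← zpow_add₀ hb0]
      refine ⟨g1 * g2, mul_mem (hmemT i' _) (hmemT j' _), ?_, ?_⟩
      · intro v hv
        obtain ⟨t, ht⟩ := hX (hsl i) v (by rw [vec_simple hp]; exact hv)
        apply Subtype.ext
        show ((g1 * g2 : D.group K) : GL D.Idx K) * (v : GL D.Idx K) = (v : GL D.Idx K) * ((g1 * g2 : D.group K) : GL D.Idx K)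
        rw [ht]
        exact comm_of_scalar hp.inList (hconj (hsl i)) (hP0 _ h5) t
      · intro v hv hc
        obtain ⟨t, ht⟩ := hX hs v hv
        have h7 : ((g1 * g2 : D.group K) : GL D.Idx K) * (v : GL D.Idx K) * ((g1 * g2 : D.group K) : GL D.Idx K)⁻¹ =
            (v : GL D.Idx K) := by
          rw [mul_inv_eq_iff_eq_mul]
          exact congrArg Subtype.val hc
        rw [ht, hconj hs] at h7
        have h8 := xG_injective hp.inList hs h7
        have h9 : t = 0 := by
          by_contra ht0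
          exact hP1 _ h6 (mul_right_cancel₀ ht0 (h8.trans (one_mul t).symm))
        apply Subtype.ext
        rw [ht, h9, xG_zero]
        rfl
    · left
      rw [List.any_eq_true] at h4
      obtain ⟨v, -, h5⟩ := h4
      simp only [Bool.and_eq_true] at h5
      have h6 := lcom_of_commPB hp h2 (hsl i) h5.2
      have e1 : (XV D l K (sr i)).subgroupOf (D.group K) = (D.rootSubgroup K (D.simple i)).subgroupOf (D.group K) := by
        rw [XV_sr hp]
      have e2 : (XV D l K (vec D l s)).subgroupOf (D.group K) = (D.rootSubgroup K s).subgroupOf (D.group K) := by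
        rw [XV_vec hp K hs]
      show LCom ((XV D l K (sr i)).subgroupOf (D.group K)) ((XV D l K (vec D l s)).subgroupOf (D.group K))
      rw [e1, e2]
      exact h6
  · -- fixed point free
    intro i
    obtain ⟨j₁, hj₁, z, hz⟩ := hfree i
    set j' : Fin l := ⟨j₁, by rw [← hp.rank_eq]; exact hj₁⟩ with hj'
    refine ⟨⟨hG hp.inList (D.simple j') (b ^ z), hG_mem_group hp.inList _ _⟩, hmemT j' z, fun v hv hc => ?_⟩
    obtain ⟨t, ht⟩ := hX (hsl i) v (by rw [vec_simple hp]; exact hv)
    have h5 : hG hp.inList (D.simple j') (b ^ z) * (v : GL D.Idx K) * (hG hp.inList (D.simple j') (b ^ z))⁻¹ =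
        (v : GL D.Idx K) := by
      rw [mul_inv_eq_iff_eq_mul]
      exact congrArg Subtype.val hc
    rw [ht, hact j' z (hsl i)] at h5
    have h6 := xG_injective hp.inList (hsl i) h5
    have h7 : t = 0 := by
      by_contra ht0
      exact hz (mul_right_cancel₀ ht0 (h6.trans (one_mul t).symm))
    apply Subtype.ext
    rw [ht, h7, xG_zero]
    rfl
  · intro i
    have h1 : (XV D l K (sr i)).subgroupOf (D.group K) = (D.rootSubgroup K (D.simple i)).subgroupOf (D.group K) := by
      rw [XV_sr hp]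
    show AbPre ((XV D l K (sr i)).subgroupOf (D.group K))
    rw [h1]
    exact hab i

/-- some simple coroot has an odd pairing with every simple root -/
def parityP (D : ChevalleyDatum) : Bool :=
  (List.range D.rank).all fun i => (List.range D.rank).any fun j => Od (D.cartan j (D.simple i))

omit hp in
theorem neg_one_ev {z : ℤ} (h : Ev z = true) : (-1 : K) ^ z = 1 := by
  unfold Ev at h
  rw [beq_iff_eq] at h
  exact Even.neg_one_zpow (Int.even_iff.2 h)

omit hp in
theorem neg_one_od (h2 : (2 : K) ≠ 0) {z : ℤ} (h : Od z = true) : (-1 : K) ^ z ≠ 1 := by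
  unfold Od at h
  rw [beq_iff_eq] at h
  rw [Odd.neg_one_zpow (Int.odd_iff.2 h)]
  intro h0
  apply h2
  linear_combination -h0

/-- **Separation by the torsion elements of order two.** -/
theorem noCov_of_two [Finite K] {p : ℕ} [CharP K p] (hp2 : p ≠ 2) {w : List (ℕ × ℕ × ℕ × ℕ)}
    (hchk : chkP D Ev Od [0, 1] w = true) (hpar : parityP D = true) {v : List (ℕ × ℕ)}
    (hv : commAllP D v = true) : NoCov p ↥(D.group K) := by
  have hpp : p.Prime := CharP.char_is_prime K p
  have h2 : (2 : K) ≠ 0 := by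
    intro h0
    have h1 : ((2 : ℕ) : K) = 0 := by exact_mod_cast h0
    rw [CharP.cast_eq_zero_iff K p] at h1
    exact hp2 ((Nat.prime_dvd_prime_iff_eq hpp Nat.prime_two).1 h1)
  refine noCov_of_checks hp hp2 (b := (-1 : K)) (neg_ne_zero.2 one_ne_zero) (fun z hz => neg_one_ev hz)
    (fun z hz => neg_one_od h2 hz) hchk ?_ ?_
  · intro i
    unfold parityP at hpar
    rw [List.all_eq_true] at hpar
    have h1 := hpar i (List.mem_range.2 (lt_rank hp i))
    rw [List.any_eq_true] at h1
    obtain ⟨j, hj, h3⟩ := h1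
    exact ⟨j, List.mem_range.1 hj, 1, by rw [one_mul]; exact neg_one_od h2 h3⟩
  · intro i
    unfold commAllP at hv
    rw [List.all_eq_true] at hv
    exact lcom_of_commPB hp h2 (RootVec.simple_lt hp.checked (lt_rank hp i)) (hv i (List.mem_range.2 (lt_rank hp i)))

end Main

section Types

variable (K : Type u) [Field K] [Finite K] (p : ℕ) [CharP K p] (hp2 : p ≠ 2)

include hp2

/-- **`F₄(q)`, `q` odd**: the multiplier has order prime to `p`. -/
theorem noCov_F4 : NoCov p ↥(chevF4.group K) :=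
  noCov_of_two (l := 4) (M := CoxeterMatrix.F₄) (by simp [IsType, typeList]) hp2 chk_F4 (by decide +kernel) comm_F4

/-- **`E₆(q)`, `q` odd**: the multiplier has order prime to `p`. -/
theorem noCov_E6 : NoCov p ↥(chevE6.group K) :=
  noCov_of_two (l := 6) (M := CoxeterMatrix.E₆) (by simp [IsType, typeList]) hp2 chk_E6 (by decide +kernel) comm_E6

/-- **`E₇(q)`, `q` odd**: the multiplier has order prime to `p`. -/
theorem noCov_E7 : NoCov p ↥(chevE7.group K) :=
  noCov_of_two (l := 7) (M := CoxeterMatrix.E₇) (by simp [IsType, typeList]) hp2 chk_E7 (by decide +kernel) comm_E7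

/-- **`E₈(q)`, `q` odd**: the multiplier has order prime to `p`. -/
theorem noCov_E8 : NoCov p ↥(chevE8.group K) :=
  noCov_of_two (l := 8) (M := CoxeterMatrix.E₈) (by simp [IsType, typeList]) hp2 chk_E8 (by decide +kernel) comm_E8

/-- **`G₂(q)`, `q ≥ 5` odd**: the multiplier has order prime to `p`. -/
theorem noCov_G2 (hq : 4 < Nat.card K) : NoCov p ↥(chevG2.group K) := by
  have hp : IsType chevG2 2 CoxeterMatrix.G₂ := by simp [IsType, typeList]
  have hpp : p.Prime := CharP.char_is_prime K p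
  have h2 : (2 : K) ≠ 0 := by
    intro h0
    have h1 : ((2 : ℕ) : K) = 0 := by exact_mod_cast h0
    rw [CharP.cast_eq_zero_iff K p] at h1
    exact hp2 ((Nat.prime_dvd_prime_iff_eq hpp Nat.prime_two).1 h1)
  have : Fintype K := Fintype.ofFinite K
  obtain ⟨g, hg⟩ := IsCyclic.exists_generator (α := Kˣ)
  have hord : orderOf g = Nat.card K - 1 := by
    rw [orderOf_eq_card_of_forall_mem_zpowers hg, Nat.card_units]
  have hpow : ∀ z : ℤ, ((g : K)) ^ z = 1 ↔ ((orderOf g : ℕ) : ℤ) ∣ z := by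
    intro z
    rw [orderOf_dvd_iff_zpow_eq_one, ← Units.val_zpow_eq_zpow_val, Units.val_eq_one]
  have hsm : ∀ z, Sm z = true → (g : K) ^ z ≠ 1 := by
    intro z hz h0
    rw [hpow] at h0
    have h1 : orderOf g ∣ z.natAbs := Int.natCast_dvd.1 h0
    unfold Sm at hz
    simp only [Bool.or_eq_true, beq_iff_eq] at hz
    rcases hz with (hz | hz) | hz <;> rw [hz] at h1 <;> have := Nat.le_of_dvd (by norm_num) h1 <;> omega
  refine noCov_of_checks hp hp2 (b := (g : K)) g.ne_zero (P0 := Ze) (P1 := Sm)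
    (fun z hz => by unfold Ze at hz; rw [beq_iff_eq] at hz; rw [hz, zpow_zero]) hsm chk_G2 ?_ ?_
  · intro i
    refine ⟨i, lt_rank hp i, 1, ?_⟩
    rw [one_mul, cartan_simple_self hp.checked (lt_rank hp i)]
    exact hsm 2 (by decide)
  · intro i
    have hc : ∀ i : Fin 2, i = 0 ∨ i = 1 := by decide
    rcases hc i with rfl | rfl
    · -- the short root
      have hs : chevG2.simple 0 < chevG2.nroots := by decide
      refine AbPre.of_field (p := p) hp2 hq
        (fun a => (⟨xG hp.inList (chevG2.simple 0) a, xG_mem_group hp.inList _ _⟩ : chevG2.group K)) ?_ ?_ ?_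
      · intro a b
        exact Subtype.ext (xG_add hp.inList _ _ _).symm
      · intro c hc
        refine ⟨⟨hG hp.inList (chevG2.simple 1) c⁻¹, hG_mem_group hp.inList _ _⟩, fun a => Subtype.ext ?_⟩
        show hG hp.inList (chevG2.simple 1) c⁻¹ * xG hp.inList (chevG2.simple 0) a *
          (hG hp.inList (chevG2.simple 1) c⁻¹)⁻¹ = _
        have h1 : chevG2.cartan 1 (chevG2.simple 0) = -1 := by decide
        rw [BruhatSplit.hG_simple_conj hp.inList (by decide) hs (inv_ne_zero hc), h1, zpow_neg_one, inv_inv]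
      · rintro ⟨g, hg⟩ hgz
        rw [mem_subgroupOf] at hgz
        have hgz' : g ∈ chevG2.rootSubgroup K (chevG2.simple 0) := hgz
        rw [mem_rootSubgroup_iff hp.inList] at hgz'
        obtain ⟨a, ha⟩ := hgz'
        exact ⟨a, Subtype.ext ha.symm⟩
    · exact lcom_of_commPB hp h2 (by decide) comm_G2

end Types

end Cfsg.Agent.H64.ChevP
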