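import Cfsg.Agent.GTwoThree.Core
import Cfsg.Agent.GTwoThree.Model
import Cfsg.Agent.H51.Mult

/-!
# A triple cover of `G₂(3)` from the relations

`RelC a b c d r t`: the relations `Rel` of `G₂(3)` without `a c = c a`. If `D` is generated by elements satisfying
`RelC` and `⁅a, c⁆` is central and not trivial, then `D` maps onto `G₂(3)` with central kernel of order divisible by
three, and `D` is perfect (`exists_pce`).
-/

set_option autoImplicit false

namespace Cfsg.Agent.H64.G23Abs

open Cfsg.Agent.GTwoThree Cfsg.Agent.SporRec.J1.Machine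
open Cfsg.Agent.H51.Mult
open scoped commutatorElement

/-- the relations of `G₂(3)` without `a c = c a` -/
structure RelC {J : Type*} [Group J] (a b c d r t : J) : Prop where
  a3 : a ^ 3 = 1
  c3 : c ^ 3 = 1
  b4 : b ^ 4 = 1
  bd2 : b * b = d * d
  rr : r * r = 1
  tt : t * t = 1
  ad : a * d = d * a
  bc : b * c = c * b
  bd : b * d = d * b
  ab3 : (a * b) ^ 3 = 1
  cd3 : (c * d) ^ 3 = 1
  za : b * b * a = a * (b * b)
  zc : b * b * c = c * (b * b)
  ra : r * a * r = a⁻¹
  rb : r * b * r = b⁻¹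
  rc : r * c * r = c⁻¹
  rd : r * d * r = d⁻¹
  bt3 : (b * t) ^ 3 = 1
  te : t * (b * d) = b * d * t
  tz : t * (b * b) * t = r
  k1 : a * (t * a * t) = t * a * t * a
  k2 : c * (t * (b * d) * c * (t * (b * d))⁻¹) = t * (b * d) * c * (t * (b * d))⁻¹ * c
  k3 : a * (t * c * t) = t * c * t * a

section

variable {J J' : Type*} [Group J] [Group J'] {a b c d r t : J}

theorem RelC.toRel (h : RelC a b c d r t) (ac : a * c = c * a) : Rel a b c d r t where
  a3 := h.a3
  c3 := h.c3
  b4 := h.b4
  bd2 := h.bd2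
  rr := h.rr
  tt := h.tt
  ac := ac
  ad := h.ad
  bc := h.bc
  bd := h.bd
  ab3 := h.ab3
  cd3 := h.cd3
  za := h.za
  zc := h.zc
  ra := h.ra
  rb := h.rb
  rc := h.rc
  rd := h.rd
  bt3 := h.bt3
  te := h.te
  tz := h.tz
  k1 := h.k1
  k2 := h.k2
  k3 := h.k3

theorem ofRel (h : Rel a b c d r t) : RelC a b c d r t where
  a3 := h.a3
  c3 := h.c3
  b4 := h.b4
  bd2 := h.bd2
  rr := h.rr
  tt := h.tt
  ad := h.ad
  bc := h.bc
  bd := h.bd
  ab3 := h.ab3
  cd3 := h.cd3
  za := h.za
  zc := h.zc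
  ra := h.ra
  rb := h.rb
  rc := h.rc
  rd := h.rd
  bt3 := h.bt3
  te := h.te
  tz := h.tz
  k1 := h.k1
  k2 := h.k2
  k3 := h.k3

theorem RelC.map (h : RelC a b c d r t) (f : J →* J') : RelC (f a) (f b) (f c) (f d) (f r) (f t) where
  a3 := by simpa using congrArg f h.a3
  c3 := by simpa using congrArg f h.c3
  b4 := by simpa using congrArg f h.b4
  bd2 := by simpa using congrArg f h.bd2
  rr := by simpa using congrArg f h.rr
  tt := by simpa using congrArg f h.tt
  ad := by simpa using congrArg f h.ad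
  bc := by simpa using congrArg f h.bc
  bd := by simpa using congrArg f h.bd
  ab3 := by simpa using congrArg f h.ab3
  cd3 := by simpa using congrArg f h.cd3
  za := by simpa using congrArg f h.za
  zc := by simpa using congrArg f h.zc
  ra := by simpa using congrArg f h.ra
  rb := by simpa using congrArg f h.rb
  rc := by simpa using congrArg f h.rc
  rd := by simpa using congrArg f h.rd
  bt3 := by simpa using congrArg f h.bt3
  te := by simpa using congrArg f h.te
  tz := by simpa using congrArg f h.tz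
  k1 := by simpa using congrArg f h.k1
  k2 := by
    have h1 := congrArg f h.k2
    simpa only [map_mul, map_inv] using h1
  k3 := by simpa using congrArg f h.k3

theorem one_of_two_three {x : J} (h2 : x * x = 1) (h3 : x ^ 3 = 1) : x = 1 := by
  rw [pow_succ, pow_two, h2, one_mul] at h3
  exact h3

/-- the relations collapse if `a = 1` -/
theorem RelC.collapse (h : RelC a b c d r t) (ha : a = 1) : b = 1 ∧ c = 1 ∧ d = 1 ∧ r = 1 ∧ t = 1 := by
  subst ha
  have hb : b = 1 := by
    have h1 : b ^ 3 = 1 := by simpa using h.ab3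
    have h2 := h.b4
    rw [pow_succ, h1, one_mul] at h2
    exact h2
  subst hb
  have hr : r = 1 := by
    have h1 := h.tz
    rw [one_mul, mul_one, h.tt] at h1
    exact h1.symm
  subst hr
  have hd2 : d * d = 1 := by
    have h1 := h.bd2
    rw [one_mul] at h1
    exact h1.symm
  have hc : c = 1 := by
    refine one_of_two_three ?_ h.c3
    have h1 := h.rc
    rw [one_mul, mul_one] at h1
    exact eq_inv_iff_mul_eq_one.1 h1
  subst hc
  have hd : d = 1 := one_of_two_three hd2 (by simpa using h.cd3)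
  have ht : t = 1 := one_of_two_three h.tt (by simpa using h.bt3)
  exact ⟨rfl, rfl, hd, rfl, ht⟩

/-- a homomorphism which is trivial on `a` is trivial -/
theorem RelC.hom_trivial (h : RelC a b c d r t) (hgen : Subgroup.closure {a, b, c, d, r, t} = ⊤) (f : J →* J')
    (ha : f a = 1) (x : J) : f x = 1 := by
  obtain ⟨hb, hc, hd, hr, ht⟩ := (h.map f).collapse ha
  have h1 : (⊤ : Subgroup J) ≤ f.ker := by
    rw [← hgen, Subgroup.closure_le]
    rintro y (rfl | rfl | rfl | rfl | rfl | rfl)
    · exact ha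
    · exact hb
    · exact hc
    · exact hd
    · exact hr
    · exact ht
  exact h1 (Subgroup.mem_top x)

theorem RelC.perfect (h : RelC a b c d r t) (hgen : Subgroup.closure {a, b, c, d, r, t} = ⊤) :
    commutator J = ⊤ := by
  have ha : Abelianization.of a = 1 := by
    have h1 := (h.map (Abelianization.of (G := J)))
    refine one_of_two_three ?_ h1.a3
    have h2 := h1.ra
    rw [mul_comm (Abelianization.of r) (Abelianization.of a), mul_assoc, h1.rr, mul_one] at h2
    exact eq_inv_iff_mul_eq_one.1 h2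
  rw [eq_top_iff]
  intro x _
  have h1 := h.hom_trivial hgen (Abelianization.of (G := J)) ha x
  rw [← MonoidHom.mem_ker, Abelianization.ker_of] at h1
  exact h1

end

section kernel

variable {J X : Type*} [Group J] [Group X] {a b c d r t : J} {a' b' c' d' r' t' : X}

theorem pair_core (h : Rel a b c d r t) (h' : Rel a' b' c' d' r' t') (ha : a ≠ 1) (ha' : a' ≠ 1)
    (hgen' : Subgroup.closure {a', b', c', d', r', t'} = ⊤) {x : J × X}
    (hx : x ∈ pairs a b c d r t a' b' c' d' r' t') (h1 : x.1 = 1) (w : X) : w⁻¹ * x.2 * w ∈ NA a' := by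
  obtain ⟨rep, hv, _, hinj⟩ := exists_rep h ha
  obtain ⟨rep', hv', h0', _⟩ := exists_rep h' ha'
  have hact := pairs_act h h' hv hv' hx
  obtain ⟨n, hn, hw⟩ := exists_node h' hv' hgen' w
  obtain ⟨m, hm, e1, e2⟩ := hact n hn
  rw [h1, one_smul] at e1
  have := hinj m hm n hn e1
  subst this
  rw [← hw, h0', smul_smul] at e2
  change (((x.2 * w) * 1 : X) : X ⧸ NA a') = ((w * 1 : X) : X ⧸ NA a') at e2
  rw [mul_one, mul_one] at e2
  have := QuotientGroup.eq.mp e2.symm
  simpa [mul_assoc] using this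

/-- an element of the core of `NA a` lying in a normal subgroup without `a` commutes with `a` -/
theorem comm_of_core (h : Rel a b c d r t) {N : Subgroup J} (hN : N.Normal) (haN : a ∉ N)
    (hNA : ∀ v ∈ N, v ∈ NA a) {v : J} (hv : v ∈ N) : v * a = a * v := by
  obtain ⟨n, hn⟩ := conj_mem (hNA v hv)
  have hn' : a ^ n = v * a * v⁻¹ := hn
  have m1 : v * a * v⁻¹ * a⁻¹ = a ^ (n - 1) := by rw [← hn', zpow_sub_one]
  have m2 : v * a * v⁻¹ * a⁻¹ ∈ N := by
    have h2 : a * v⁻¹ * a⁻¹ ∈ N := hN.conj_mem _ (N.inv_mem hv) a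
    have := N.mul_mem hv h2
    simpa only [mul_assoc] using this
  have m3 : v * a * v⁻¹ * a⁻¹ = 1 := by
    by_contra hne
    rw [m1] at hne
    have h4 := Pre.mem_zpow_of_cube h.a3 hne
    rw [← m1] at h4
    have h5 : Subgroup.zpowers (v * a * v⁻¹ * a⁻¹) ≤ N := by rwa [Subgroup.zpowers_le]
    exact haN (h5 h4)
  rw [mul_inv_eq_one, mul_inv_eq_iff_eq_mul] at m3
  exact m3

/-- **A group with the relations maps onto `X` with central kernel.** -/
theorem exists_hom (h : Rel a b c d r t) (ha : a ≠ 1) (hgen : Subgroup.closure {a, b, c, d, r, t} = ⊤)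
    [IsSimpleGroup X] (h' : Rel a' b' c' d' r' t') (ha' : a' ≠ 1)
    (hgen' : Subgroup.closure {a', b', c', d', r', t'} = ⊤) :
    ∃ ρ : J →* X, Function.Surjective ρ ∧ ρ.ker ≤ Subgroup.center J := by
  have core' : ∀ y : X, (∀ w : X, w⁻¹ * y * w ∈ NA a') → y = 1 := by
    intro y hy
    have hyN : y ∈ (NA a').normalCore := by
      intro w
      have := hy w⁻¹
      rwa [inv_inv] at this
    have hnorm := Subgroup.normalCore_normal (NA a')
    rcases hnorm.eq_bot_or_eq_top with h1 | h1
    · rw [h1] at hyN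
      exact Subgroup.mem_bot.mp hyN
    · exfalso
      apply h'.b_not_mem ha'
      have : b' ∈ (NA a').normalCore := by rw [h1]; trivial
      exact Subgroup.normalCore_le _ this
  set Γ := pairs a b c d r t a' b' c' d' r' t' with hΓ
  have hinj : ∀ x ∈ Γ, x.1 = 1 → x.2 = 1 := fun x hx h1 => core' _ (pair_core h h' ha ha' hgen' hx h1)
  have b1 : Function.Bijective ((MonoidHom.fst J X).comp Γ.subtype) := by
    constructor
    · rw [injective_iff_map_eq_one]
      rintro ⟨x, hx⟩ h1
      have h2 : x.1 = 1 := h1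
      exact Subtype.ext (Prod.ext h2 (hinj x hx h2))
    · intro y
      obtain ⟨x, hx, e⟩ := pairs_fst_surj (a' := a') (b' := b') (c' := c') (d' := d') (r' := r') (t' := t') h hgen y
      exact ⟨⟨x, hx⟩, e⟩
  set e := MulEquiv.ofBijective _ b1 with he
  let ρ : J →* X := ((MonoidHom.snd J X).comp Γ.subtype).comp e.symm.toMonoidHom
  have hρ : ∀ x ∈ Γ, ρ x.1 = x.2 := by
    intro x hx
    have h1 : e.symm x.1 = ⟨x, hx⟩ := by
      rw [MulEquiv.symm_apply_eq]
      rfl
    show ((e.symm x.1 : Γ) : J × X).2 = x.2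
    rw [h1]
  have hΓρ : ∀ y : J, (y, ρ y) ∈ Γ := by
    intro y
    obtain ⟨⟨x, hx⟩, e1⟩ := b1.2 y
    have e2 : x.1 = y := e1
    rw [← e2, hρ x hx]
    exact hx
  have hρa : ρ a = a' := by
    have m0 : (g8 a b c d r t 0, g8 a' b' c' d' r' t' 0) ∈ Γ :=
      Subgroup.subset_closure ⟨0, by norm_num, rfl⟩
    have m1 : (g8 a b c d r t 1, g8 a' b' c' d' r' t' 1) ∈ Γ :=
      Subgroup.subset_closure ⟨1, by norm_num, rfl⟩
    have h1 : (g8 a b c d r t 0 * g8 a b c d r t 1, g8 a' b' c' d' r' t' 0 * g8 a' b' c' d' r' t' 1) ∈ Γ :=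
      mul_mem m0 m1
    have h2 := hρ _ h1
    have e1 : g8 a b c d r t 0 * g8 a b c d r t 1 = a := canc h.rr a
    have e2 : g8 a' b' c' d' r' t' 0 * g8 a' b' c' d' r' t' 1 = a' := canc h'.rr a'
    dsimp only at h2
    rwa [e1, e2] at h2
  refine ⟨ρ, ?_, ?_⟩
  · intro y
    obtain ⟨x, hx, e1⟩ := pairs_fst_surj (a' := a) (b' := b) (c' := c) (d' := d) (r' := r) (t' := t) h' hgen' y
    have h1 := hρ _ (pairs_swap hx)
    exact ⟨x.2, h1.trans e1⟩
  · have hNA : ∀ v ∈ ρ.ker, v ∈ NA a := by
      intro v hv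
      have h1 := pairs_swap (hΓρ v)
      have h2 := pair_core h' h ha' ha hgen h1 ((MonoidHom.mem_ker).1 hv) 1
      simpa using h2
    have haN : a ∉ ρ.ker := by
      intro h1
      rw [MonoidHom.mem_ker, hρa] at h1
      exact ha' h1
    have hC : Subgroup.centralizer (ρ.ker : Set J) = ⊤ := by
      have hn : (Subgroup.centralizer (ρ.ker : Set J)).Normal := inferInstance
      have ha1 : QuotientGroup.mk' (Subgroup.centralizer (ρ.ker : Set J)) a = 1 := by
        rw [QuotientGroup.mk'_apply, QuotientGroup.eq_one_iff, Subgroup.mem_centralizer_iff]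
        intro v hv
        exact comm_of_core h inferInstance haN hNA hv
      rw [eq_top_iff]
      intro x _
      have h2 := (ofRel h).hom_trivial hgen (QuotientGroup.mk' (Subgroup.centralizer (ρ.ker : Set J))) ha1 x
      rwa [QuotientGroup.mk'_apply, QuotientGroup.eq_one_iff] at h2
    intro v hv
    rw [Subgroup.mem_center_iff]
    intro g
    have hg : g ∈ Subgroup.centralizer (ρ.ker : Set J) := by rw [hC]; exact Subgroup.mem_top g
    exact (Subgroup.mem_centralizer_iff.1 hg v hv).symm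

end kernel

section cover

variable {D X : Type*} [Group D] [Group X] {a b c d r t : D} {a' b' c' d' r' t' : X}

/-- **The triple cover.** -/
theorem exists_pce [Finite D] (h : RelC a b c d r t) (hgen : Subgroup.closure {a, b, c, d, r, t} = ⊤)
    (hz : ⁅a, c⁆ ∈ Subgroup.center D) (hne : ⁅a, c⁆ ≠ 1) [IsSimpleGroup X] (h' : Rel a' b' c' d' r' t')
    (ha' : a' ≠ 1) (hgen' : Subgroup.closure {a', b', c', d', r', t'} = ⊤) :
    ∃ π : D →* X, PCE π ∧ 3 ∣ Nat.card π.ker := by
  have hperf := h.perfect hgen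
  have hzle : Subgroup.zpowers ⁅a, c⁆ ≤ Subgroup.center D := by rwa [Subgroup.zpowers_le]
  have hZn : (Subgroup.zpowers ⁅a, c⁆).Normal := normal_of_le_center hzle
  set q := QuotientGroup.mk' (Subgroup.zpowers ⁅a, c⁆) with hq
  have hqs : Function.Surjective q := QuotientGroup.mk'_surjective _
  have hqk : q.ker = Subgroup.zpowers ⁅a, c⁆ := QuotientGroup.ker_mk' _
  have hac : q a * q c = q c * q a := by
    rw [← commutatorElement_eq_one_iff_mul_comm, ← map_commutatorElement, ← MonoidHom.mem_ker, hqk]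
    exact Subgroup.mem_zpowers _
  have hrel : Rel (q a) (q b) (q c) (q d) (q r) (q t) := (h.map q).toRel hac
  have hgenJ : Subgroup.closure {q a, q b, q c, q d, q r, q t} = ⊤ := by
    have h1 := congrArg (Subgroup.map q) hgen
    rw [MonoidHom.map_closure, ← MonoidHom.range_eq_map, MonoidHom.range_eq_top.2 hqs] at h1
    rw [← h1]
    congr 1
    simp only [Set.image_insert_eq, Set.image_singleton]
  have haJ : q a ≠ 1 := by
    intro h1
    rw [← MonoidHom.mem_ker, hqk] at h1
    have h2 := Subgroup.mem_center_iff.1 (hzle h1) c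
    apply hne
    rw [commutatorElement_eq_one_iff_mul_comm]
    exact h2.symm
  obtain ⟨ρ, hρs, hρc⟩ := exists_hom hrel haJ hgenJ h' ha' hgen'
  have hzk : ⁅a, c⁆ ∈ (ρ.comp q).ker := by
    rw [MonoidHom.mem_ker, MonoidHom.comp_apply]
    have h1 : q ⁅a, c⁆ = 1 := by
      rw [← MonoidHom.mem_ker, hqk]
      exact Subgroup.mem_zpowers _
    rw [h1, map_one]
  refine ⟨ρ.comp q, ⟨hρs.comp hqs, ?_, hperf⟩, ?_⟩
  · intro k hk
    rw [MonoidHom.mem_ker, MonoidHom.comp_apply, ← MonoidHom.mem_ker] at hk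
    -- the commutators with `k` are central
    have h1 : ∀ g : D, ⁅k, g⁆ ∈ Subgroup.center D := by
      intro g
      apply hzle
      rw [← hqk, MonoidHom.mem_ker, map_commutatorElement, commutatorElement_eq_one_iff_mul_comm]
      exact (Subgroup.mem_center_iff.1 (hρc hk) (q g)).symm
    let f : D →* Subgroup.center D :=
      { toFun := fun g => ⟨⁅k, g⁆, h1 g⟩
        map_one' := Subtype.ext (commutatorElement_one_right k)
        map_mul' := fun g g' => by
          apply Subtype.ext
          show ⁅k, g * g'⁆ = ⁅k, g⁆ * ⁅k, g'⁆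
          have h2 := Subgroup.mem_center_iff.1 (h1 g') g
          calc ⁅k, g * g'⁆ = ⁅k, g⁆ * (g * ⁅k, g'⁆ * g⁻¹) := by
                rw [commutatorElement_def, commutatorElement_def, commutatorElement_def]; group
            _ = ⁅k, g⁆ * ⁅k, g'⁆ := by rw [h2, mul_inv_cancel_right] }
    have h2 : commutator D ≤ f.ker := by
      rw [commutator_def, Subgroup.commutator_le]
      intro x _ y _
      rw [MonoidHom.mem_ker, map_commutatorElement, commutatorElement_eq_one_iff_mul_comm]
      exact Subtype.ext (Subgroup.mem_center_iff.1 (f y).2 (f x))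
    rw [hperf] at h2
    rw [Subgroup.mem_center_iff]
    intro g
    have h3 : ⁅k, g⁆ = 1 := congrArg Subtype.val ((MonoidHom.mem_ker).1 (h2 (Subgroup.mem_top g)))
    exact (commutatorElement_eq_one_iff_mul_comm.1 h3).symm
  · have hz3 : ⁅a, c⁆ ^ 3 = 1 := by
      have hzc : ∀ x, x * ⁅a, c⁆ = ⁅a, c⁆ * x := Subgroup.mem_center_iff.1 hz
      have h1 : a * c * a⁻¹ = ⁅a, c⁆ * c := by rw [commutatorElement_def]; group
      have h2 : a * c ^ 3 * a⁻¹ = ⁅a, c⁆ ^ 3 * c ^ 3 := by
        have e1 : a * c ^ 3 * a⁻¹ = (a * c * a⁻¹) ^ 3 := by rw [conj_pow]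
        rw [e1, h1]
        exact (show Commute ⁅a, c⁆ c from (hzc c).symm).mul_pow 3
      rw [h.c3, mul_one, mul_one, mul_inv_cancel] at h2
      exact h2.symm
    have h3 : orderOf (⟨⁅a, c⁆, hzk⟩ : (ρ.comp q).ker) = 3 := by
      have : Fact (Nat.Prime 3) := ⟨by norm_num⟩
      apply orderOf_eq_prime
      · exact Subtype.ext hz3
      · intro h4
        exact hne (congrArg Subtype.val h4)
    rw [← h3]
    exact orderOf_dvd_natCard _

end cover

end Cfsg.Agent.H64.G23Abs
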