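import Cfsg.Agent.H909.Sp4List
import Cfsg.Agent.ClassicalGeometry.SympBasic

/-!
# Elements of `Sp₄(F)` given by linear maps, and the involution attached to a non-degenerate
2-decomposition (helper64, for S5786 task 606)
-/

set_option autoImplicit false

namespace Cfsg.Agent.H64.Sp4Base

open Cfsg Cfsg.Geo Matrix
open Cfsg.Agent.H909.Sp4List
open Cfsg.Agent.ClassicalGeometry.SympBasic

universe u
variable {F : Type u} [Field F]

theorem exists_sp (φ : (I4 → F) →ₗ[F] (I4 → F))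
    (h : ∀ x y, sympForm 2 F (φ x) (φ y) = sympForm 2 F x y) :
    ∃ g : GL I4 F, g ∈ spGL 2 F ∧ ∀ x, (g : Matrix I4 I4 F) *ᵥ x = φ x := by
  have hinj : Function.Injective φ := by
    rw [injective_iff_map_eq_zero]
    intro x hx
    apply eq_zero_of_forall_sympForm_right
    intro y
    rw [← h, hx, sympForm_zero_left]
  let e := LinearEquiv.ofInjectiveEndo φ hinj
  have he : ∀ x, e x = φ x := fun x => rfl
  have h1 : LinearMap.toMatrix' φ * LinearMap.toMatrix' (e.symm : (I4 → F) →ₗ[F] (I4 → F)) = 1 := by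
    rw [← LinearMap.toMatrix'_comp, ← LinearMap.toMatrix'_id]
    congr 1
    refine LinearMap.ext fun x => ?_
    show φ (e.symm x) = x
    rw [← he, LinearEquiv.apply_symm_apply]
  refine ⟨⟨_, _, h1, mul_eq_one_comm.1 h1⟩, ?_, ?_⟩
  · intro u v
    show sympForm 2 F (LinearMap.toMatrix' φ *ᵥ u) (LinearMap.toMatrix' φ *ᵥ v) = _
    rw [LinearMap.toMatrix'_mulVec, LinearMap.toMatrix'_mulVec, h]
  · intro x
    show LinearMap.toMatrix' φ *ᵥ x = _
    rw [LinearMap.toMatrix'_mulVec]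

/-- The two summands of a 2-decomposition. -/
theorem isCompl {D : Fin 2 → Submodule F (I4 → F)} (hD : IsMDecomposition 2 D) :
    IsCompl (D 0) (D 1) := by
  constructor
  · exact (iSupIndep_pair (by decide : (0 : Fin 2) ≠ 1) (by decide)).1 hD.indep
  · rw [codisjoint_iff, eq_top_iff, ← hD.iSup_eq_top]
    apply iSup_le
    intro i
    fin_cases i
    · exact le_sup_left
    · exact le_sup_right

theorem exists_add {D : Fin 2 → Submodule F (I4 → F)} (hD : IsMDecomposition 2 D)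
    (x : I4 → F) : ∃ a ∈ D 0, ∃ b ∈ D 1, x = a + b := by
  have h : x ∈ D 0 ⊔ D 1 := by rw [(isCompl hD).sup_eq_top]; trivial
  obtain ⟨a, ha, b, hb, rfl⟩ := Submodule.mem_sup.1 h
  exact ⟨a, ha, b, hb, rfl⟩

theorem exists_ne {D : Fin 2 → Submodule F (I4 → F)} (hD : IsMDecomposition 2 D) (i : Fin 2) :
    ∃ x ∈ D i, x ≠ 0 := by
  have h : D i ≠ ⊥ := by
    intro h
    have := hD.finrank_eq i
    rw [h, finrank_bot] at this
    omega
  obtain ⟨x, hx, h0⟩ := Submodule.exists_mem_ne_zero_of_ne_bot h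
  exact ⟨x, hx, h0⟩

/-- a linear map preserving each summand, in the stabiliser -/
theorem mem_stab_of {D : Fin 2 → Submodule F (I4 → F)} {g : GL I4 F}
    (σ : Equiv.Perm (Fin 2)) (hD : IsMDecomposition 2 D)
    (h : ∀ i, ∀ x ∈ D i, (g : Matrix I4 I4 F) *ᵥ x ∈ D (σ i)) : g ∈ decompositionStabilizer D := by
  refine ⟨σ, fun i => ?_⟩
  apply Submodule.eq_of_le_of_finrank_eq
  · rw [Submodule.map_le_iff_le_comap]
    intro x hx
    exact h i x hx
  · have hinj : Function.Injective (Matrix.toLin' (g : Matrix I4 I4 F)) := ?_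
    · rw [← (Submodule.equivMapOfInjective _ hinj (D i)).finrank_eq, hD.finrank_eq,
        hD.finrank_eq]
    intro x y hxy
    have hxy' : (g : Matrix I4 I4 F) *ᵥ x = (g : Matrix I4 I4 F) *ᵥ y := hxy
    have h3 := congrArg (fun z => ((g⁻¹ : GL I4 F) : Matrix I4 I4 F) *ᵥ z) hxy'
    simp only [Matrix.mulVec_mulVec, ← Units.val_mul, inv_mul_cancel, Units.val_one,
      Matrix.one_mulVec] at h3
    exact h3

/-- the involution attached to a non-degenerate 2-decomposition -/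
theorem exists_invol {L : Subgroup (GL I4 F)} (hL : T2 L) :
    ∃ z : (I4 → F) →ₗ[F] (I4 → F), (∀ x, z (z x) = x) ∧
      (∀ x y, sympForm 2 F (z x) (z y) = sympForm 2 F x y) ∧ (∃ x, x ≠ 0 ∧ z x = x) ∧
      (∃ x, x ≠ 0 ∧ z x = -x) ∧ (∀ x, ∃ a b, x = a + b ∧ z a = a ∧ z b = -b) ∧
      ∀ g ∈ L, ∀ x, z ((g : Matrix I4 I4 F) *ᵥ ((g : Matrix I4 I4 F) *ᵥ x)) =
        (g : Matrix I4 I4 F) *ᵥ ((g : Matrix I4 I4 F) *ᵥ (z x)) := by
  obtain ⟨E, hE, rfl⟩ := hL
  have hD := hE.decomp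
  have hc := isCompl hD
  let z : (I4 → F) →ₗ[F] (I4 → F) := LinearMap.ofIsCompl hc (E 0).subtype (-(E 1).subtype)
  have h0 : ∀ x ∈ E 0, z x = x := fun x hx =>
    LinearMap.ofIsCompl_apply_left hc (⟨x, hx⟩ : E 0)
  have h1 : ∀ x ∈ E 1, z x = -x := fun x hx =>
    LinearMap.ofIsCompl_apply_right hc (⟨x, hx⟩ : E 1)
  refine ⟨z, ?_, ?_, ?_, ?_, ?_, ?_⟩
  · intro x
    obtain ⟨a, ha, b, hb, rfl⟩ := exists_add hD x
    rw [map_add, map_add, h0 a ha, h1 b hb, map_neg, h0 a ha, h1 b hb, neg_neg]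
  · intro x y
    obtain ⟨a, ha, b, hb, rfl⟩ := exists_add hD x
    obtain ⟨c, hc', d, hd, rfl⟩ := exists_add hD y
    have e1 := hE.orthogonal 0 1 (by decide) a ha d hd
    have e2 := hE.orthogonal 1 0 (by decide) b hb c hc'
    rw [map_add, map_add, h0 a ha, h1 b hb, h0 c hc', h1 d hd]
    simp only [sympForm_add_left, sympForm_add_right, sympForm_neg_left, sympForm_neg_right,
      e1, e2]
    ring
  · obtain ⟨x, hx, hx0⟩ := exists_ne hD 0
    exact ⟨x, hx0, h0 x hx⟩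
  · obtain ⟨x, hx, hx0⟩ := exists_ne hD 1
    exact ⟨x, hx0, h1 x hx⟩
  · intro x
    obtain ⟨a, ha, b, hb, rfl⟩ := exists_add hD x
    exact ⟨a, b, rfl, h0 a ha, h1 b hb⟩
  · rintro g ⟨⟨σ, hσ⟩, -⟩ x
    have hs : ∀ σ : Equiv.Perm (Fin 2), ∀ i, σ (σ i) = i := by decide
    have hm : ∀ i, ∀ x ∈ E i, (g : Matrix I4 I4 F) *ᵥ ((g : Matrix I4 I4 F) *ᵥ x) ∈ E i := by
      intro i x hx
      have h2 : (g : Matrix I4 I4 F) *ᵥ x ∈ E (σ i) := by
        rw [← hσ i]
        exact ⟨x, hx, rfl⟩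
      have h3 : (g : Matrix I4 I4 F) *ᵥ ((g : Matrix I4 I4 F) *ᵥ x) ∈ E (σ (σ i)) := by
        rw [← hσ (σ i)]
        exact ⟨_, h2, rfl⟩
      rwa [hs] at h3
    obtain ⟨a, ha, b, hb, rfl⟩ := exists_add hD x
    simp only [map_add, Matrix.mulVec_add]
    rw [h0 _ (hm 0 a ha), h1 _ (hm 1 b hb), h0 a ha, h1 b hb, Matrix.mulVec_neg,
      Matrix.mulVec_neg]

/-- A quadratic map vanishing off the two eigenspaces of an involution vanishes. -/
theorem quad_zero [Fintype F] (h5 : 5 ≤ Fintype.card F) (h2 : (2 : F) ≠ 0)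
    (z k : (I4 → F) →ₗ[F] (I4 → F)) (hw0 : ∃ x, x ≠ 0 ∧ z x = x)
    (hw1 : ∃ x, x ≠ 0 ∧ z x = -x) (hdec : ∀ x, ∃ a b, x = a + b ∧ z a = a ∧ z b = -b)
    (hQ : ∀ v, sympForm 2 F v (k v) ≠ 0 → z v = v ∨ z v = -v) (v : I4 → F) :
    sympForm 2 F v (k v) = 0 := by
  classical
  have key : ∀ a b : I4 → F, a ≠ 0 → b ≠ 0 → z a = a → z b = -b → ∀ c : F, c ≠ 0 →
      sympForm 2 F (a + c • b) (k (a + c • b)) = 0 := by
    intro a b ha hb hza hzb c hc
    by_contra hne
    rcases hQ _ hne with h | h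
    · rw [map_add, map_smul, hza, hzb, add_right_inj, smul_neg, neg_eq_iff_add_eq_zero,
        ← two_smul F, smul_smul, smul_eq_zero] at h
      rcases h with h | h
      · exact (mul_ne_zero h2 hc) h
      · exact hb h
    · rw [map_add, map_smul, hza, hzb, neg_add, smul_neg, add_left_inj, eq_neg_iff_add_eq_zero,
        ← two_smul F, smul_eq_zero] at h
      rcases h with h | h
      · exact h2 h
      · exact ha h
  -- an element `c` with `c ≠ 0`, `c ^ 2 ≠ 1`
  obtain ⟨c, hc0, hc1⟩ : ∃ c : F, c ≠ 0 ∧ c ^ 2 ≠ 1 := by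
    by_contra hcon
    push Not at hcon
    have hsub : (Finset.univ : Finset F) ⊆ {0, 1, -1} := by
      intro c _
      by_cases h : c = 0
      · simp [h]
      · have := hcon c h
        rw [sq_eq_one_iff] at this
        rcases this with h | h <;> simp [h]
    have := Finset.card_le_card hsub
    have h3 : ({0, 1, -1} : Finset F).card ≤ 3 := Finset.card_le_three
    rw [Finset.card_univ] at this
    omega
  have key2 : ∀ a b : I4 → F, a ≠ 0 → b ≠ 0 → z a = a → z b = -b →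
      sympForm 2 F a (k a) = 0 ∧ sympForm 2 F b (k b) = 0 := by
    intro a b ha hb hza hzb
    have e1 := key a b ha hb hza hzb 1 one_ne_zero
    have e2 := key a b ha hb hza hzb (-1) (neg_ne_zero.2 one_ne_zero)
    have e3 := key a b ha hb hza hzb c hc0
    simp only [map_add, map_smul, sympForm_add_left, sympForm_add_right, sympForm_smul_left,
      sympForm_smul_right] at e1 e2 e3
    have f1 : (2 : F) * (sympForm 2 F a (k a) + sympForm 2 F b (k b)) = 0 := by
      linear_combination e1 + e2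
    have f2 := (mul_eq_zero.1 f1).resolve_left h2
    have f3 : (2 : F) * (sympForm 2 F a (k b) + sympForm 2 F b (k a)) = 0 := by
      linear_combination e1 - e2
    have f4 := (mul_eq_zero.1 f3).resolve_left h2
    have f5 : (c ^ 2 - 1) * sympForm 2 F b (k b) = 0 := by
      linear_combination e3 - f2 - c * f4
    have f6 := (mul_eq_zero.1 f5).resolve_left (sub_ne_zero.2 hc1)
    refine ⟨?_, f6⟩
    linear_combination f2 - f6
  obtain ⟨w0, hw0, hz0⟩ := hw0
  obtain ⟨w1, hw1, hz1⟩ := hw1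
  obtain ⟨a, b, rfl, hza, hzb⟩ := hdec v
  by_cases ha : a = 0
  · by_cases hb : b = 0
    · simp [ha, hb]
    · rw [ha, zero_add]
      exact (key2 w0 b hw0 hb hz0 hzb).2
  · by_cases hb : b = 0
    · rw [hb, add_zero]
      exact (key2 a w1 ha hw1 hza hz1).1
    · have := key a b ha hb hza hzb 1 one_ne_zero
      rwa [one_smul] at this

end Cfsg.Agent.H64.Sp4Base
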