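import Cfsg.Agent.H64.Sp4Base

/-!
# Elements of the geometric types `T3`, `T4`, `T5` of `Sp₄(F)` (helper64, for S5786 task 606)
-/

set_option autoImplicit false

namespace Cfsg.Agent.H64.Sp4Core

open Cfsg Cfsg.Geo Matrix
open Cfsg.Agent.H909.Sp4List Cfsg.Agent.H64.Sp4Base
open Cfsg.Agent.ClassicalGeometry.SympBasic

universe u
variable {F : Type u} [Field F]

/-- the functional `x ↦ f(x, w)` -/
def fr (w : I4 → F) : (I4 → F) →ₗ[F] F where
  toFun x := sympForm 2 F x w
  map_add' x y := sympForm_add_left x y w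
  map_smul' c x := sympForm_smul_left c x w

@[simp] theorem fr_apply (w x : I4 → F) : fr w x = sympForm 2 F x w := rfl

/-- `x ↦ x + p(x) v + q(x) w` -/
def two (v w : I4 → F) (p q : (I4 → F) →ₗ[F] F) : (I4 → F) →ₗ[F] (I4 → F) :=
  LinearMap.id + p.smulRight v + q.smulRight w

@[simp] theorem two_apply (v w : I4 → F) (p q : (I4 → F) →ₗ[F] F) (x : I4 → F) :
    two v w p q x = x + p x • v + q x • w := rfl

theorem two_two (v w : I4 → F) (p q : (I4 → F) →ₗ[F] F) (y : I4 → F) :
    ∃ P R : F, two v w p q (two v w p q y) = y + P • v + R • w := by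
  refine ⟨p y + p (two v w p q y), q y + q (two v w p q y), ?_⟩
  generalize hP : p (two v w p q y) = P'
  generalize hR : q (two v w p q y) = R'
  rw [two_apply v w p q (two v w p q y), hP, hR, two_apply]
  module

theorem exists_pair {v : I4 → F} (hv : v ≠ 0) : ∃ w, sympForm 2 F v w ≠ 0 := by
  by_contra h
  push Not at h
  exact hv (eq_zero_of_forall_sympForm_right h)

theorem indep_pair {v w : I4 → F} (h : sympForm 2 F v w ≠ 0) {a b : F} (e : a • v + b • w = 0) :
    a = 0 ∧ b = 0 := by
  have e1 : sympForm 2 F (a • v + b • w) w = 0 := by rw [e, sympForm_zero_left]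
  have e2 : sympForm 2 F v (a • v + b • w) = 0 := by rw [e, sympForm_zero_right]
  rw [sympForm_add_left, sympForm_smul_left, sympForm_smul_left, sympForm_self, mul_zero,
    add_zero] at e1
  rw [sympForm_add_right, sympForm_smul_right, sympForm_smul_right, sympForm_self, mul_zero,
    zero_add] at e2
  exact ⟨(mul_eq_zero.1 e1).resolve_right h, (mul_eq_zero.1 e2).resolve_right h⟩

/-- norm one elements `α + βk` with `αβ ≠ 0` -/
theorem exists_norm [Fintype F] (h5 : 5 ≤ Fintype.card F) (h2 : (2 : F) ≠ 0) {d : F}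
    (hd : ∀ c : F, c ^ 2 * d ≠ 1) : ∃ α β : F, α ≠ 0 ∧ β ≠ 0 ∧ α ^ 2 - β ^ 2 * d = 1 := by
  classical
  obtain ⟨c, hc0, hc1⟩ : ∃ c : F, c ≠ 0 ∧ 1 + c ^ 2 * d ≠ 0 := by
    by_contra hcon
    push Not at hcon
    have h1 := hcon 1 one_ne_zero
    have hd0 : d = -1 := by linear_combination h1
    have hsub : (Finset.univ : Finset F) ⊆ {0, 1, -1} := by
      intro c _
      by_cases h : c = 0
      · simp [h]
      · have := hcon c h
        rw [hd0] at this
        have h3 : c ^ 2 = 1 := by linear_combination -this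
        rw [sq_eq_one_iff] at h3
        rcases h3 with h | h <;> simp [h]
    have := Finset.card_le_card hsub
    have h3 : ({0, 1, -1} : Finset F).card ≤ 3 := Finset.card_le_three
    rw [Finset.card_univ] at this
    omega
  have hne : 1 - c ^ 2 * d ≠ 0 := fun h => hd c (by linear_combination -h)
  refine ⟨(1 + c ^ 2 * d) / (1 - c ^ 2 * d), 2 * c / (1 - c ^ 2 * d), div_ne_zero hc1 hne,
    div_ne_zero (mul_ne_zero h2 hc0) hne, ?_⟩
  field_simp
  ring

section Skew

variable (k : (I4 → F) →ₗ[F] (I4 → F)) (d : F)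

/-- the unitary reflection with respect to `v` -/
def refl (v : I4 → F) (α β : F) : (I4 → F) →ₗ[F] (I4 → F) :=
  two v (k v)
    (((sympForm 2 F v (k v))⁻¹ * (α - 1)) • fr (k v) - ((sympForm 2 F v (k v))⁻¹ * (β * d)) • fr v)
    (((sympForm 2 F v (k v))⁻¹ * β) • fr (k v) - ((sympForm 2 F v (k v))⁻¹ * (α - 1)) • fr v)

variable {k d}

theorem refl_sp (hs : ∀ x y, sympForm 2 F (k x) y = -sympForm 2 F x (k y)) {v : I4 → F}
    (hv : sympForm 2 F v (k v) ≠ 0) {α β : F} (hn : α ^ 2 - β ^ 2 * d = 1) (x y : I4 → F) :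
    sympForm 2 F (refl k d v α β x) (refl k d v α β y) = sympForm 2 F x y := by
  have hQ : sympForm 2 F v (k v) * (sympForm 2 F v (k v))⁻¹ = 1 := mul_inv_cancel₀ hv
  have e1 : sympForm 2 F (k v) v = -sympForm 2 F v (k v) := hs v v
  have e2 : sympForm 2 F v y = -sympForm 2 F y v := sympForm_swap v y
  have e3 : sympForm 2 F (k v) y = -sympForm 2 F y (k v) := sympForm_swap _ y
  set Q := sympForm 2 F v (k v) with hQdef
  simp only [refl, two_apply, LinearMap.sub_apply, LinearMap.smul_apply, fr_apply, smul_eq_mul,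
    sympForm_add_left, sympForm_add_right, sympForm_smul_left, sympForm_smul_right,
    sympForm_self, e1, e2, e3, ← hQdef]
  set X1 := sympForm 2 F x v
  set X2 := sympForm 2 F x (k v)
  set Y1 := sympForm 2 F y v
  set Y2 := sympForm 2 F y (k v)
  linear_combination (X1 * Y2 - X2 * Y1) * (Q⁻¹ * hn +
    Q⁻¹ * ((α - 1) ^ 2 - β ^ 2 * d) * hQ)

theorem refl_comm (hkk : ∀ x, k (k x) = d • x)
    (hs : ∀ x y, sympForm 2 F (k x) y = -sympForm 2 F x (k y)) {v : I4 → F}
    {α β : F} (x : I4 → F) :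
    refl k d v α β (k x) = k (refl k d v α β x) := by
  have e1 : sympForm 2 F (k x) (k v) = -(d * sympForm 2 F x v) := by
    rw [hs, hkk, sympForm_smul_right]
  have e2 : sympForm 2 F (k x) v = -sympForm 2 F x (k v) := hs x v
  simp only [refl, two_apply, LinearMap.sub_apply, LinearMap.smul_apply, fr_apply, smul_eq_mul,
    map_add, map_smul, hkk, e1, e2]
  module

theorem refl_self {v : I4 → F}
    (hv : sympForm 2 F v (k v) ≠ 0) {α β : F} :
    refl k d v α β v = α • v + β • k v := by
  have hQ : (sympForm 2 F v (k v))⁻¹ * sympForm 2 F v (k v) = 1 := inv_mul_cancel₀ hv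
  simp only [refl, two_apply, LinearMap.sub_apply, LinearMap.smul_apply, fr_apply, smul_eq_mul,
    sympForm_self]
  set Q := sympForm 2 F v (k v)
  have e1 : Q⁻¹ * (α - 1) * Q - Q⁻¹ * (β * d) * 0 = α - 1 := by linear_combination (α - 1) * hQ
  have e2 : Q⁻¹ * β * Q - Q⁻¹ * (α - 1) * 0 = β := by linear_combination β * hQ
  rw [e1, e2]
  module

end Skew

/-- the core of `T5 ⊄ T2` -/
theorem five_two [Fintype F] (h5 : 5 ≤ Fintype.card F) (h2 : (2 : F) ≠ 0)
    {k : (I4 → F) →ₗ[F] (I4 → F)} {d : F} (hkk : ∀ x, k (k x) = d • x)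
    (hs : ∀ x y, sympForm 2 F (k x) y = -sympForm 2 F x (k y)) (hd0 : d ≠ 0)
    (hd : ∀ c : F, c ^ 2 * d ≠ 1) {M L : Subgroup (GL I4 F)}
    (hM : ∀ g ∈ spGL 2 F, (∀ x, (g : Matrix I4 I4 F) *ᵥ (k x) = k ((g : Matrix I4 I4 F) *ᵥ x)) →
      g ∈ M) (hML : M ≤ L) (hL : T2 L) (v : I4 → F) : sympForm 2 F v (k v) = 0 := by
  obtain ⟨z, hzz, hzf, hw0, hw1, hdec, hzL⟩ := exists_invol hL
  obtain ⟨α, β, hα, hβ, hn⟩ := exists_norm h5 h2 hd
  -- `z` commutes with `k`
  have hzk : ∀ x, z (k x) = k (z x) := by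
    obtain ⟨g, hg, hgx⟩ := exists_sp (α • LinearMap.id + β • k) (by
      intro x y
      have e1 : sympForm 2 F (k x) (k y) = -(d * sympForm 2 F x y) := by
        rw [hs, hkk, sympForm_smul_right]
      simp only [LinearMap.add_apply, LinearMap.smul_apply, LinearMap.id_coe, id_eq,
        sympForm_add_left, sympForm_add_right, sympForm_smul_left, sympForm_smul_right, e1, hs x y]
      linear_combination (sympForm 2 F x y) * hn)
    simp only [LinearMap.add_apply, LinearMap.smul_apply, LinearMap.id_coe, id_eq] at hgx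
    have hgM : g ∈ M := hM g hg (fun x => by
      rw [hgx, hgx, map_add, map_smul, map_smul])
    intro x
    have e := hzL g (hML hgM) x
    simp only [hgx, map_add, map_smul, hkk] at e
    have e2 : (2 * (α * β)) • (z (k x) - k (z x)) = 0 := by
      linear_combination (norm := module) e
    rcases smul_eq_zero.1 e2 with h | h
    · exact absurd h (mul_ne_zero h2 (mul_ne_zero hα hβ))
    · exact sub_eq_zero.1 h
  apply quad_zero h5 h2 z k hw0 hw1 hdec
  intro v hv
  obtain ⟨g, hg, hgx⟩ := exists_sp (refl k d v α β) (refl_sp hs hv hn)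
  have hgM : g ∈ M := hM g hg (fun x => by rw [hgx, hgx, refl_comm hkk hs])
  have e := hzL g (hML hgM) v
  simp only [hgx] at e
  obtain ⟨P, R, hPR⟩ : ∃ P R : F, refl k d v α β (refl k d v α β (z v)) =
      z v + P • v + R • k v := two_two _ _ _ _ _
  rw [hPR, refl_self hv, map_add, map_smul, map_smul, refl_comm hkk hs, refl_self hv] at e
  simp only [map_add, map_smul, hkk, hzk] at e
  -- e : α • (α • z v + β • k (z v)) + β • (α • k (z v) + β • d • z v) = z v + P • v + R • k v
  set e1 : F := α ^ 2 + β ^ 2 * d - 1 with he1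
  set e2 : F := 2 * (α * β) with he2
  have he20 : e2 ≠ 0 := mul_ne_zero h2 (mul_ne_zero hα hβ)
  have E1 : e1 • z v + e2 • k (z v) = P • v + R • k v := by
    rw [he1, he2]
    linear_combination (norm := module) e
  have E2 : e1 • k (z v) + (e2 * d) • z v = P • k v + (R * d) • v := by
    have := congrArg k E1
    simp only [map_add, map_smul, hkk] at this
    linear_combination (norm := module) this
  have E3 : (e1 ^ 2 - e2 ^ 2 * d) • z v = (e1 * P - e2 * R * d) • v +
      (e1 * R - e2 * P) • k v := by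
    linear_combination (norm := module) e1 • E1 - e2 • E2
  have hN : e1 ^ 2 - e2 ^ 2 * d ≠ 0 := by
    intro h
    by_cases h1 : e1 = 0
    · rw [h1] at h
      have : e2 ^ 2 * d = 0 := by linear_combination -h
      exact (mul_ne_zero (pow_ne_zero 2 he20) hd0) this
    · apply hd (e2 / e1)
      field_simp
      linear_combination -h
  obtain ⟨s, t, hst⟩ : ∃ s t : F, z v = s • v + t • k v := by
    refine ⟨(e1 ^ 2 - e2 ^ 2 * d)⁻¹ * (e1 * P - e2 * R * d),
      (e1 ^ 2 - e2 ^ 2 * d)⁻¹ * (e1 * R - e2 * P), ?_⟩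
    have := congrArg (fun y => (e1 ^ 2 - e2 ^ 2 * d)⁻¹ • y) E3
    simp only [smul_smul, inv_mul_cancel₀ hN, one_smul, smul_add] at this
    rw [this]
  have E4 : (s ^ 2 + t ^ 2 * d - 1) • v + (2 * (s * t)) • k v = 0 := by
    have h := hzz v
    rw [hst, map_add, map_smul, map_smul, hzk, hst, map_add, map_smul, map_smul, hkk] at h
    linear_combination (norm := module) h
  obtain ⟨f1, f2⟩ := indep_pair hv E4
  have f3 := (mul_eq_zero.1 f2).resolve_left h2
  rcases mul_eq_zero.1 f3 with h | h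
  · rw [h] at f1
    exact absurd (by linear_combination f1) (hd t)
  · rw [h] at f1 hst
    have : s ^ 2 = 1 := by linear_combination f1
    rw [zero_smul, add_zero] at hst
    rcases sq_eq_one_iff.1 this with h | h
    · left; rw [hst, h, one_smul]
    · right; rw [hst, h, neg_one_smul]

/-- the core of irreducibility for `T5` -/
theorem five_irr [Fintype F] (h5 : 5 ≤ Fintype.card F) (h2 : (2 : F) ≠ 0)
    {k : (I4 → F) →ₗ[F] (I4 → F)} {d : F} (hkk : ∀ x, k (k x) = d • x)
    (hs : ∀ x y, sympForm 2 F (k x) y = -sympForm 2 F x (k y)) (hd0 : d ≠ 0)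
    (hd : ∀ c : F, c ^ 2 * d ≠ 1) {M L : Subgroup (GL I4 F)}
    (hM : ∀ g ∈ spGL 2 F, (∀ x, (g : Matrix I4 I4 F) *ᵥ (k x) = k ((g : Matrix I4 I4 F) *ᵥ x)) →
      g ∈ M) (hML : M ≤ L) (hL : T1 L) (v : I4 → F) : sympForm 2 F v (k v) = 0 := by
  obtain ⟨W, hW, hts, rfl⟩ := hL
  obtain ⟨w, hw, hw0⟩ := Submodule.exists_mem_ne_zero_of_ne_bot hW
  obtain ⟨α, β, hα, hβ, hn⟩ := exists_norm h5 h2 hd
  have key : ∀ v, sympForm 2 F v (k v) ≠ 0 → sympForm 2 F w v = 0 := by
    intro v hv
    obtain ⟨g, hg, hgx⟩ := exists_sp (refl k d v α β) (refl_sp hs hv hn)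
    have hgM : g ∈ M := hM g hg (fun x => by rw [hgx, hgx, refl_comm hkk hs])
    have h1 : (g : Matrix I4 I4 F) *ᵥ w ∈ W := ((hML hgM).1 w).1 hw
    have h3 := hts _ h1 _ hw
    rw [hgx] at h3
    have hQ : sympForm 2 F v (k v) * (sympForm 2 F v (k v))⁻¹ = 1 := mul_inv_cancel₀ hv
    simp only [refl, two_apply, LinearMap.sub_apply, LinearMap.smul_apply, fr_apply, smul_eq_mul,
      sympForm_add_left, sympForm_smul_left, sympForm_self, sympForm_swap v w,
      sympForm_swap (k v) w] at h3
    set Q := sympForm 2 F v (k v)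
    set X1 := sympForm 2 F w v
    set X2 := sympForm 2 F w (k v)
    have h4 : Q⁻¹ * β * (X2 ^ 2 - d * X1 ^ 2) = 0 := by linear_combination -h3
    have h5 : X2 ^ 2 - d * X1 ^ 2 = 0 :=
      (mul_eq_zero.1 h4).resolve_left (mul_ne_zero (inv_ne_zero hv) hβ)
    by_contra hX
    by_cases h6 : X2 = 0
    · rw [h6] at h5
      have : d * X1 ^ 2 = 0 := by linear_combination -h5
      exact mul_ne_zero hd0 (pow_ne_zero 2 hX) this
    · apply hd (X1 / X2)
      field_simp
      linear_combination -h5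
  -- a vector not orthogonal to `w`
  obtain ⟨y, hy⟩ := exists_pair hw0
  have hy0 : sympForm 2 F y (k y) = 0 := by
    by_contra h
    exact hy (key y h)
  by_cases hwv : sympForm 2 F w v = 0
  · have g1 : sympForm 2 F (y + v) (k (y + v)) = 0 := by
      by_contra h
      have := key _ h
      rw [sympForm_add_right, hwv, add_zero] at this
      exact hy this
    have g2 : sympForm 2 F (y - v) (k (y - v)) = 0 := by
      by_contra h
      have := key _ h
      rw [sympForm_sub_right, hwv, sub_zero] at this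
      exact hy this
    rw [map_add, sympForm_add_left, sympForm_add_right, sympForm_add_right] at g1
    rw [map_sub, sympForm_sub_left, sympForm_sub_right, sympForm_sub_right] at g2
    have g3 : (2 : F) * sympForm 2 F v (k v) = 0 := by linear_combination g1 + g2 - 2 * hy0
    exact (mul_eq_zero.1 g3).resolve_left h2
  · by_contra h
    exact hwv (key v h)

/-- the core of irreducibility for `T4` -/
theorem four_irr (h2 : (2 : F) ≠ 0)
    {k : (I4 → F) →ₗ[F] (I4 → F)} {d : F} (hkk : ∀ x, k (k x) = d • x)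
    (hs : ∀ x y, sympForm 2 F (k x) y = sympForm 2 F x (k y)) (hd0 : d ≠ 0)
    {M L : Subgroup (GL I4 F)}
    (hM : ∀ g ∈ spGL 2 F, (∀ x, (g : Matrix I4 I4 F) *ᵥ (k x) = k ((g : Matrix I4 I4 F) *ᵥ x)) →
      g ∈ M) (hML : M ≤ L) (hL : T1 L) : False := by
  obtain ⟨W, hW, hts, rfl⟩ := hL
  obtain ⟨w, hw, hw0⟩ := Submodule.exists_mem_ne_zero_of_ne_bot hW
  have hvk : ∀ v, sympForm 2 F v (k v) = 0 := by
    intro v
    have h1 := hs v v
    rw [sympForm_swap] at h1
    have : (2 : F) * sympForm 2 F v (k v) = 0 := by linear_combination -h1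
    exact (mul_eq_zero.1 this).resolve_left h2
  have key : ∀ v, sympForm 2 F w v * sympForm 2 F w (k v) = 0 := by
    intro v
    obtain ⟨g, hg, hgx⟩ := exists_sp (two v (k v) (fr (k v)) (fr v)) (by
      intro x y
      simp only [two_apply, fr_apply, sympForm_add_left, sympForm_add_right, sympForm_smul_left,
        sympForm_smul_right, sympForm_self, hvk, sympForm_swap v y, sympForm_swap (k v) y,
        sympForm_swap (k v) v]
      ring)
    have hgM : g ∈ M := hM g hg (fun x => by
      have e1 : sympForm 2 F (k x) (k v) = d * sympForm 2 F x v := by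
        rw [hs, hkk, sympForm_smul_right]
      simp only [hgx, two_apply, fr_apply, map_add, map_smul, hkk, e1, hs x v]
      module)
    have h1 : (g : Matrix I4 I4 F) *ᵥ w ∈ W := ((hML hgM).1 w).1 hw
    have h3 := hts _ h1 _ hw
    rw [hgx] at h3
    simp only [two_apply, fr_apply, sympForm_add_left, sympForm_smul_left, sympForm_self,
      sympForm_swap v w, sympForm_swap (k v) w] at h3
    have : (2 : F) * (sympForm 2 F w v * sympForm 2 F w (k v)) = 0 := by linear_combination -h3
    exact (mul_eq_zero.1 this).resolve_left h2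
  -- two vectors
  obtain ⟨a, ha⟩ := exists_pair hw0
  have ha2 : sympForm 2 F w (k a) = 0 := (mul_eq_zero.1 (key a)).resolve_left ha
  have hb : sympForm 2 F w (k (k a)) ≠ 0 := by
    rw [hkk, sympForm_smul_right]
    exact mul_ne_zero hd0 ha
  have h3 := key (a + k a)
  rw [map_add, sympForm_add_right, sympForm_add_right, ha2, add_zero, zero_add] at h3
  exact mul_ne_zero ha hb h3

end Cfsg.Agent.H64.Sp4Core
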