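import Cfsg.Agent.H64.Sp4Three

/-!
# `T3 ⊄ T7` for `q = 5` (helper64, S5786 task 606)
-/

set_option autoImplicit false

namespace Cfsg.Agent.H64.Sp4Seven

open Cfsg Cfsg.Geo Matrix
open Cfsg.Agent.H909.Sp4List Cfsg.Agent.H64.Sp4Base Cfsg.Agent.H64.Sp4Core
open Cfsg.Agent.H64.Sp4Types Cfsg.Agent.H64.Sp4Three
open Cfsg.Agent.ClassicalGeometry.SympBasic

universe u
variable {F : Type u} [Field F]

/-- In an absolutely irreducible group of order 32 with centre of order 2, an element of `R` is not a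
combination of elements of other cosets of the centre. -/
theorem not_mem_span {R : Subgroup (GL I4 F)} (habs : ActsAbsolutelyIrreducibly (matrixSet R))
    (h32 : Nat.card R = 32) (hz : Nat.card (Subgroup.center R) = 2) (S : Set R) (x : R)
    (hx : ∀ y ∈ S, x⁻¹ * y ∉ Subgroup.center R) :
    ((x : GL I4 F) : Matrix I4 I4 F) ∉
      Submodule.span F ((fun y : R => ((y : GL I4 F) : Matrix I4 I4 F)) '' S) := by
  classical
  have hfin : Finite R := Nat.finite_of_card_ne_zero (by rw [h32]; norm_num)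
  -- central elements are scalars
  have hsc : ∀ y ∈ Subgroup.center R, ∃ c : F, ((y : GL I4 F) : Matrix I4 I4 F) = c • 1 := by
    intro y hy
    apply habs.2
    rintro _ ⟨s, hs, rfl⟩
    have h1 := (Subgroup.mem_center_iff.1 hy) ⟨s, hs⟩
    have h2 := congrArg (fun t : R => ((t : GL I4 F) : Matrix I4 I4 F)) h1
    simp only [Subgroup.coe_mul, Units.val_mul] at h2
    exact h2.symm
  let b : R ⧸ Subgroup.center R → Matrix I4 I4 F := fun c => ((c.out : GL I4 F) : Matrix I4 I4 F)
  have hb : ∀ y : R, ∃ c : F, ((y : GL I4 F) : Matrix I4 I4 F) =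
      c • b (QuotientGroup.mk y) := by
    intro y
    obtain ⟨z, hz'⟩ := QuotientGroup.mk_out_eq_mul (Subgroup.center R) y
    obtain ⟨c, hc⟩ := hsc _ (inv_mem z.2)
    refine ⟨c, ?_⟩
    have h1 : y = (QuotientGroup.mk y : R ⧸ Subgroup.center R).out * (z : R)⁻¹ := by
      rw [hz', mul_inv_cancel_right]
    have h2 := congrArg (fun t : R => ((t : GL I4 F) : Matrix I4 I4 F)) h1
    simp only [Subgroup.coe_mul, Units.val_mul] at h2
    rw [h2, hc, mul_smul_comm, mul_one]
  have hfq : Finite (R ⧸ Subgroup.center R) := inferInstance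
  have : Fintype (R ⧸ Subgroup.center R) := Fintype.ofFinite _
  have hcard : Fintype.card (R ⧸ Subgroup.center R) = Module.finrank F (Matrix I4 I4 F) := by
    have h := Subgroup.card_eq_card_quotient_mul_card_subgroup (Subgroup.center R)
    rw [h32, hz] at h
    have h16 : Fintype.card (R ⧸ Subgroup.center R) = 16 := by
      rw [← Nat.card_eq_fintype_card]
      omega
    rw [h16, Module.finrank_matrix]
    simp
  have hspan : ⊤ ≤ Submodule.span F (Set.range b) := by
    rw [← Cfsg.Agent.H920.span_eq_top habs, Submodule.span_le]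
    rintro _ ⟨s, hs, rfl⟩
    obtain ⟨c, hc⟩ := hb ⟨s, hs⟩
    show (s : Matrix I4 I4 F) ∈ _
    rw [show (s : Matrix I4 I4 F) = _ from hc]
    exact Submodule.smul_mem _ c (Submodule.subset_span ⟨_, rfl⟩)
  have hli := linearIndependent_of_top_le_span_of_card_eq_finrank hspan hcard
  intro hmem
  have h1 : (QuotientGroup.mk x : R ⧸ Subgroup.center R) ∉
      (QuotientGroup.mk '' S : Set (R ⧸ Subgroup.center R)) := by
    rintro ⟨y, hy, hyx⟩
    exact hx y hy (QuotientGroup.eq.1 hyx.symm)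
  have h2 := hli.notMem_span_image h1
  apply h2
  obtain ⟨c, hc⟩ := hb x
  have hc0 : c ≠ 0 := by
    rintro rfl
    rw [zero_smul] at hc
    have h3 : ((x : GL I4 F) : Matrix I4 I4 F) * (((x : GL I4 F)⁻¹ : GL I4 F) : Matrix I4 I4 F)
        = 1 := by rw [← Units.val_mul, mul_inv_cancel, Units.val_one]
    rw [hc, zero_mul] at h3
    exact zero_ne_one h3
  have h3 : b (QuotientGroup.mk x) = c⁻¹ • ((x : GL I4 F) : Matrix I4 I4 F) := by
    rw [hc, smul_smul, inv_mul_cancel₀ hc0, one_smul]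
  rw [h3]
  apply Submodule.smul_mem
  refine Submodule.span_le.2 ?_ hmem
  rintro _ ⟨y, hy, rfl⟩
  obtain ⟨c', hc'⟩ := hb y
  show ((y : GL I4 F) : Matrix I4 I4 F) ∈ _
  rw [hc']
  exact Submodule.smul_mem _ _ (Submodule.subset_span ⟨_, ⟨y, hy, rfl⟩, rfl⟩)

theorem conj_relation (N x : Matrix I4 I4 F) (hN : N * N = 0) :
    x = (1 + N) * ((1 + N) * ((1 + N) * x * (1 - N)) * (1 - N)) * (1 - N) -
      (3 : F) • ((1 + N) * ((1 + N) * x * (1 - N)) * (1 - N)) + (3 : F) • ((1 + N) * x * (1 - N)) := by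
  have e2 : (1 + N) * (1 + N) = 1 + (2 : F) • N := by
    have h : (1 + N) * (1 + N) = 1 + N + N + N * N := by noncomm_ring
    rw [h, hN, two_smul]
    abel
  have e2' : (1 - N) * (1 - N) = 1 - (2 : F) • N := by
    have h : (1 - N) * (1 - N) = 1 - N - N + N * N := by noncomm_ring
    rw [h, hN, two_smul]
    abel
  have e3 : (1 + N) * (1 + (2 : F) • N) = 1 + (3 : F) • N := by
    have h : (1 + N) * (1 + (2 : F) • N) = 1 + (2 : F) • N + N + (2 : F) • (N * N) := by
      rw [mul_add, mul_one, mul_smul_comm, add_mul, one_mul, smul_add]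
      abel
    rw [h, hN, smul_zero, show (3 : F) = 1 + 2 by norm_num, add_smul, one_smul]
    abel
  have e3' : (1 - (2 : F) • N) * (1 - N) = 1 - (3 : F) • N := by
    have h : (1 - (2 : F) • N) * (1 - N) = 1 - (2 : F) • N - N + (2 : F) • (N * N) := by
      rw [mul_sub, mul_one, sub_mul, one_mul, smul_mul_assoc]
      abel
    rw [h, hN, smul_zero, show (3 : F) = 1 + 2 by norm_num, add_smul, one_smul]
    abel
  have f2 : (1 + N) * ((1 + N) * x * (1 - N)) * (1 - N) =
      (1 + (2 : F) • N) * x * (1 - (2 : F) • N) := by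
    rw [← e2, ← e2']
    simp only [mul_assoc]
  have f3 : (1 + N) * ((1 + N) * ((1 + N) * x * (1 - N)) * (1 - N)) * (1 - N) =
      (1 + (3 : F) • N) * x * (1 - (3 : F) • N) := by
    rw [f2, ← e3, ← e3']
    simp only [mul_assoc]
  rw [f3, f2]
  simp only [add_mul, mul_sub, mul_one, one_mul, smul_mul_assoc, mul_smul_comm, smul_smul,
    smul_add, smul_sub]
  module

theorem T3_T7 [Fintype F] (h5 : Fintype.card F = 5) {D : Fin 2 → Submodule F (I4 → F)}
    (hD : IsMDecomposition 2 D) (hs : ∀ i, IsTotallySingularFor (sympForm 2 F) (D i))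
    {L : Subgroup (GL I4 F)} (hL : T7 L) (hle : decompositionStabilizer D ⊓ spGL 2 F ≤ L) :
    False := by
  obtain ⟨p, R, hp, hc, hR, habs, hsim, h32, hz, hm, rfl⟩ := hL
  -- the element `g`
  obtain ⟨v, hv, hv0⟩ := exists_ne hD 0
  obtain ⟨w, hw, hw0, hvw⟩ := exists_perp hD hs (show (0 : Fin 2) ≠ 1 by decide) hv
  obtain ⟨g, hg, hgx⟩ := exists_mem hD (two v w (fr w) (fr v)) (by
    intro x y
    simp only [two_apply, fr_apply, sympForm_add_left, sympForm_add_right, sympForm_smul_left,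
      sympForm_smul_right, sympForm_self, sympForm_swap v y, sympForm_swap w y,
      sympForm_swap w v, hvw]
    ring) (by
    intro i x hx
    rw [two_apply, fr_apply, fr_apply]
    rcases fin2_or 0 1 (by decide) i with rfl | rfl
    · rw [hs 0 x hx v hv, zero_smul, add_zero]
      exact (D 0).add_mem hx ((D 0).smul_mem _ hv)
    · rw [hs 1 x hx w hw, zero_smul, add_zero]
      exact (D 1).add_mem hx ((D 1).smul_mem _ hw))
  set N : Matrix I4 I4 F := (g : Matrix I4 I4 F) - 1 with hN
  have hNx : ∀ x, N *ᵥ x = sympForm 2 F x w • v + sympForm 2 F x v • w := by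
    intro x
    rw [hN, Matrix.sub_mulVec, hgx, Matrix.one_mulVec, two_apply, fr_apply, fr_apply]
    abel
  have hNN : N * N = 0 := by
    apply Matrix.toLin'.injective
    refine LinearMap.ext fun x => ?_
    rw [Matrix.toLin'_mul, LinearMap.comp_apply, Matrix.toLin'_apply, Matrix.toLin'_apply, hNx,
      hNx, map_zero, LinearMap.zero_apply]
    simp only [sympForm_add_left, sympForm_smul_left, sympForm_self, hvw, sympForm_swap w v]
    simp
  have hg1 : (g : Matrix I4 I4 F) = 1 + N := by rw [hN]; abel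
  have e1 : ((g⁻¹ : GL I4 F) : Matrix I4 I4 F) = 1 - N := by
    have h1 : (g : Matrix I4 I4 F) * (1 - N) = 1 := by
      have h : (1 + N) * (1 - N) = 1 - N * N := by noncomm_ring
      rw [hg1, h, hNN, sub_zero]
    calc ((g⁻¹ : GL I4 F) : Matrix I4 I4 F) = ((g⁻¹ : GL I4 F) : Matrix I4 I4 F) *
          ((g : Matrix I4 I4 F) * (1 - N)) := by rw [h1, mul_one]
      _ = 1 - N := by rw [← mul_assoc, ← Units.val_mul, inv_mul_cancel, Units.val_one, one_mul]
  have h50 : (5 : F) = 0 := by
    have := FiniteField.cast_card_eq_zero F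
    rw [h5] at this
    exact_mod_cast this
  have hgpow : g ^ 5 = 1 := by
    apply Units.ext
    rw [Units.val_pow_eq_pow_val, hg1, Units.val_one]
    have hn : ∀ n : ℕ, (1 + N) ^ n = 1 + (n : F) • N := by
      intro n
      induction n with
      | zero => simp
      | succ n ih =>
        rw [pow_succ, ih, add_mul, one_mul, mul_add, mul_one, smul_mul_assoc, hNN, smul_zero,
          add_zero, Nat.cast_succ, add_smul, one_smul]
        abel
    rw [hn, show ((5 : ℕ) : F) = 0 by exact_mod_cast h50, zero_smul, add_zero]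
  -- `g` normalises `R`
  have hgR : ∀ x ∈ R, g * x * g⁻¹ ∈ R := by
    intro x hx
    have := (hle hg).1
    exact (Subgroup.mem_normalizer_iff.1 this x).1 hx
  -- `g` does not centralise `R`
  obtain ⟨x, hx, hgx'⟩ : ∃ x ∈ R, g * x * g⁻¹ ≠ x := by
    by_contra hcon
    push Not at hcon
    obtain ⟨c, hc⟩ := habs.2 (g : Matrix I4 I4 F) (by
      rintro _ ⟨s, hs', rfl⟩
      have h1 := hcon s hs'
      have h2 : g * s = s * g := by
        exact mul_inv_eq_iff_eq_mul.1 h1
      have h3 := congrArg (fun t : GL I4 F => (t : Matrix I4 I4 F)) h2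
      simpa only [Units.val_mul] using h3)
    -- then `N = (c - 1)`, nilpotent, so zero
    have h3 : N = (c - 1) • (1 : Matrix I4 I4 F) := by
      rw [hN, hc, sub_smul, one_smul]
    have h4 : (c - 1) * (c - 1) = 0 := by
      have h5' := hNN
      rw [h3, smul_mul_smul_comm, mul_one, smul_eq_zero] at h5'
      exact h5'.resolve_right one_ne_zero
    have h6 : c - 1 = 0 := mul_self_eq_zero.1 h4
    rw [h6, zero_smul] at h3
    obtain ⟨y, hy⟩ := exists_pair hw0
    have h7 := hNx y
    rw [h3, Matrix.zero_mulVec] at h7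
    have h8 : sympForm 2 F y w • v + sympForm 2 F y v • w = 0 := h7.symm
    have h9 : sympForm 2 F y w • v = 0 := by
      apply inter hD (show (0 : Fin 2) ≠ 1 by decide) ((D 0).smul_mem _ hv)
      rw [eq_neg_of_add_eq_zero_left h8]
      exact (D 1).neg_mem ((D 1).smul_mem _ hw)
    rcases smul_eq_zero.1 h9 with h | h
    · apply hy
      rw [sympForm_swap, h, neg_zero]
    · exact hv0 h
  -- central elements square to one
  have hzsq : ∀ y ∈ Subgroup.center R, y ^ 2 = 1 := by
    intro y hy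
    have h1 : (⟨y, hy⟩ : Subgroup.center R) ^ Nat.card (Subgroup.center R) = 1 := pow_card_eq_one'
    rw [hz] at h1
    exact congrArg Subtype.val h1
  -- conjugation by a power of `g`
  have hconj : ∀ n : ℕ, ∀ y ∈ R, g ^ n * y * (g ^ n)⁻¹ ∈ R := by
    intro n
    induction n with
    | zero => intro y hy; simpa using hy
    | succ n ih =>
      intro y hy
      have := hgR _ (ih y hy)
      rw [pow_succ', _root_.mul_inv_rev]
      simpa only [mul_assoc] using this
  have hscal : ∀ y : R, y ∈ Subgroup.center R → ∀ t : GL I4 F, (y : GL I4 F) * t = t * y := by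
    intro y hy t
    have hsc : ∃ c : F, ((y : GL I4 F) : Matrix I4 I4 F) = c • 1 := by
      apply habs.2
      rintro _ ⟨s, hs, rfl⟩
      have h1 := (Subgroup.mem_center_iff.1 hy) ⟨s, hs⟩
      have h2 := congrArg (fun t : R => ((t : GL I4 F) : Matrix I4 I4 F)) h1
      simp only [Subgroup.coe_mul, Units.val_mul] at h2
      exact h2.symm
    obtain ⟨c, hc⟩ := hsc
    apply Units.ext
    rw [Units.val_mul, Units.val_mul, hc, smul_mul_assoc, mul_smul_comm, one_mul, mul_one]
  -- if `h = g ^ n` fixes the coset of `x`, it centralises `x`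
  have hfix : ∀ n : ℕ, (⟨x, hx⟩ : R)⁻¹ * ⟨g ^ n * x * (g ^ n)⁻¹, hconj n x hx⟩ ∈
      Subgroup.center R → g ^ n * x * (g ^ n)⁻¹ = x := by
    intro n hn
    set t : R := (⟨x, hx⟩ : R)⁻¹ * ⟨g ^ n * x * (g ^ n)⁻¹, hconj n x hx⟩ with ht
    have h1 : g ^ n * x * (g ^ n)⁻¹ = x * (t : GL I4 F) := by
      rw [ht, Subgroup.coe_mul, Subgroup.coe_inv, mul_inv_cancel_left]
    have hcomm := hscal t hn
    have h2 : ∀ m : ℕ, (g ^ n) ^ m * x * ((g ^ n) ^ m)⁻¹ = x * (t : GL I4 F) ^ m := by
      intro m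
      induction m with
      | zero => simp
      | succ m ih =>
        calc (g ^ n) ^ (m + 1) * x * ((g ^ n) ^ (m + 1))⁻¹
            = (g ^ n) * ((g ^ n) ^ m * x * ((g ^ n) ^ m)⁻¹) * (g ^ n)⁻¹ := by
              rw [pow_succ', _root_.mul_inv_rev]
              simp only [mul_assoc]
          _ = (g ^ n) * (x * (t : GL I4 F) ^ m) * (g ^ n)⁻¹ := by rw [ih]
          _ = (g ^ n * x * (g ^ n)⁻¹) * (t : GL I4 F) ^ m := by
              have h3 : (t : GL I4 F) ^ m * (g ^ n)⁻¹ = (g ^ n)⁻¹ * (t : GL I4 F) ^ m :=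
                ((show Commute (t : GL I4 F) (g ^ n)⁻¹ from hcomm _).pow_left m).eq
              rw [← mul_assoc, mul_assoc _ ((t : GL I4 F) ^ m), h3]
              simp only [mul_assoc]
          _ = x * (t : GL I4 F) ^ (m + 1) := by rw [h1, pow_succ', mul_assoc]
    have h3 := h2 5
    rw [← pow_mul, mul_comm n 5, pow_mul, hgpow, one_pow, one_mul, inv_one, mul_one] at h3
    have h4 : (t : GL I4 F) ^ 5 = 1 := by
      have := h3.symm
      rwa [mul_eq_left] at this
    have h5' : (t : GL I4 F) ^ 2 = 1 := by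
      have := hzsq t hn
      have := congrArg (fun s : R => (s : GL I4 F)) this
      simpa only [Subgroup.coe_pow, Subgroup.coe_one] using this
    have h6 : (t : GL I4 F) = 1 := by
      have : (t : GL I4 F) ^ 5 = ((t : GL I4 F) ^ 2) ^ 2 * (t : GL I4 F) := by
        rw [← pow_mul, ← pow_succ]
      rw [h4, h5', one_pow, one_mul] at this
      exact this.symm
    rw [h1, h6, mul_one]
  have hfix' : ∀ n k : ℕ, (g ^ n) ^ k = g → g ^ n * x * (g ^ n)⁻¹ ≠ x := by
    intro n k hnk h
    apply hgx'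
    have h1 : Commute (g ^ n) x := by
      show g ^ n * x = x * g ^ n
      exact mul_inv_eq_iff_eq_mul.1 h
    have h2 : Commute g x := by
      have := h1.pow_left k
      rwa [hnk] at this
    rw [h2.eq, mul_inv_cancel_right]
  -- conclusion
  let X : ℕ → R := fun n => ⟨g ^ n * x * (g ^ n)⁻¹, hconj n x hx⟩
  have hnot := not_mem_span habs h32 hz {y | y = X 1 ∨ y = X 2 ∨ y = X 3} ⟨x, hx⟩ (by
    rintro y (rfl | rfl | rfl) hcen
    · exact hfix' 1 1 (by rw [pow_one, pow_one]) (hfix 1 hcen)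
    · exact hfix' 2 3 (by rw [← pow_mul, show 2 * 3 = 5 + 1 by norm_num, pow_succ, hgpow,
        one_mul]) (hfix 2 hcen)
    · exact hfix' 3 2 (by rw [← pow_mul, show 3 * 2 = 5 + 1 by norm_num, pow_succ, hgpow,
        one_mul]) (hfix 3 hcen))
  apply hnot
  have hX : ∀ n, (((X n : R) : GL I4 F) : Matrix I4 I4 F) ∈ Submodule.span F
      ((fun y : R => ((y : GL I4 F) : Matrix I4 I4 F)) '' {y | y = X 1 ∨ y = X 2 ∨ y = X 3}) ∨
      ¬ (n = 1 ∨ n = 2 ∨ n = 3) := by
    intro n
    by_cases hn : n = 1 ∨ n = 2 ∨ n = 3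
    · left
      apply Submodule.subset_span
      refine ⟨X n, ?_, rfl⟩
      rcases hn with rfl | rfl | rfl
      · exact Or.inl rfl
      · exact Or.inr (Or.inl rfl)
      · exact Or.inr (Or.inr rfl)
    · right; exact hn
  have hX1 := (hX 1).resolve_right (by simp)
  have hX2 := (hX 2).resolve_right (by simp)
  have hX3 := (hX 3).resolve_right (by simp)
  have key := conj_relation N (x : Matrix I4 I4 F) hNN
  have m1 : (((X 1 : R) : GL I4 F) : Matrix I4 I4 F) =
      (1 + N) * (x : Matrix I4 I4 F) * (1 - N) := by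
    show ((g ^ 1 * x * (g ^ 1)⁻¹ : GL I4 F) : Matrix I4 I4 F) = _
    rw [pow_one, Units.val_mul, Units.val_mul, e1, hg1]
  have m2 : (((X 2 : R) : GL I4 F) : Matrix I4 I4 F) =
      (1 + N) * ((1 + N) * (x : Matrix I4 I4 F) * (1 - N)) * (1 - N) := by
    show ((g ^ 2 * x * (g ^ 2)⁻¹ : GL I4 F) : Matrix I4 I4 F) = _
    rw [pow_two, _root_.mul_inv_rev, show g * g * x * (g⁻¹ * g⁻¹) = g * (g * x * g⁻¹) * g⁻¹ by
      simp only [mul_assoc]]
    simp only [Units.val_mul]
    rw [e1, hg1]
  have m3 : (((X 3 : R) : GL I4 F) : Matrix I4 I4 F) =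
      (1 + N) * ((1 + N) * ((1 + N) * (x : Matrix I4 I4 F) * (1 - N)) * (1 - N)) * (1 - N) := by
    show ((g ^ 3 * x * (g ^ 3)⁻¹ : GL I4 F) : Matrix I4 I4 F) = _
    rw [show g ^ 3 = g * g * g by rw [pow_succ, pow_two], _root_.mul_inv_rev, _root_.mul_inv_rev,
      show g * g * g * x * (g⁻¹ * (g⁻¹ * g⁻¹)) = g * (g * (g * x * g⁻¹) * g⁻¹) * g⁻¹ by
      simp only [mul_assoc]]
    simp only [Units.val_mul]
    rw [e1, hg1]
  show (x : Matrix I4 I4 F) ∈ _
  rw [key, ← m3, ← m2, ← m1]
  exact Submodule.add_mem _ (Submodule.sub_mem _ hX3 (Submodule.smul_mem _ _ hX2))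
    (Submodule.smul_mem _ _ hX1)

end Cfsg.Agent.H64.Sp4Seven
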