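import Cfsg.Agent.H64.Sp4Types

/-!
# Type `T3` of `Sp₄(F)` and irreducibility (helper64, S5786 task 606)
-/

set_option autoImplicit false

namespace Cfsg.Agent.H64.Sp4Three

open Cfsg Cfsg.Geo Matrix
open Cfsg.Agent.H909.Sp4List Cfsg.Agent.H64.Sp4Base Cfsg.Agent.H64.Sp4Core
open Cfsg.Agent.H64.Sp4Types
open Cfsg.Agent.ClassicalGeometry.SympBasic

universe u
variable {F : Type u} [Field F] {D : Fin 2 → Submodule F (I4 → F)}

theorem fin2_cases : ∀ i j : Fin 2, i ≠ j → (i = 0 ∧ j = 1) ∨ (i = 1 ∧ j = 0) := by decide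

theorem fin2_or : ∀ i j : Fin 2, i ≠ j → ∀ a, a = i ∨ a = j := by decide

theorem exists_add' (hD : IsMDecomposition 2 D) {i j : Fin 2} (hij : i ≠ j) (x : I4 → F) :
    ∃ a ∈ D i, ∃ b ∈ D j, x = a + b := by
  obtain ⟨a, ha, b, hb, h⟩ := exists_add hD x
  have h3 := fin2_cases i j hij
  rcases h3 with ⟨rfl, rfl⟩ | ⟨rfl, rfl⟩
  · exact ⟨a, ha, b, hb, h⟩
  · exact ⟨b, hb, a, ha, by rw [h, add_comm]⟩

theorem inter (hD : IsMDecomposition 2 D) {i j : Fin 2} (hij : i ≠ j) {x : I4 → F}
    (hi : x ∈ D i) (hj : x ∈ D j) : x = 0 := by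
  have h := (isCompl hD).disjoint
  rw [Submodule.disjoint_def] at h
  have h3 := fin2_cases i j hij
  rcases h3 with ⟨rfl, rfl⟩ | ⟨rfl, rfl⟩
  · exact h x hi hj
  · exact h x hj hi

/-- a non-zero vector of `D i` pairs to 1 with a vector of `D j` -/
theorem exists_one (hD : IsMDecomposition 2 D)
    (hs : ∀ i, IsTotallySingularFor (sympForm 2 F) (D i)) {i j : Fin 2} (hij : i ≠ j)
    {v : I4 → F} (hv : v ∈ D i) (h0 : v ≠ 0) : ∃ w ∈ D j, sympForm 2 F v w = 1 := by
  obtain ⟨y, hy⟩ := exists_pair h0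
  obtain ⟨a, ha, b, hb, rfl⟩ := exists_add' hD hij y
  rw [sympForm_add_right, hs i v hv a ha, zero_add] at hy
  refine ⟨(sympForm 2 F v b)⁻¹ • b, (D j).smul_mem _ hb, ?_⟩
  rw [sympForm_smul_right, inv_mul_cancel₀ hy]

/-- a vector outside a line of `D j` -/
theorem exists_off (hD : IsMDecomposition 2 D) (j : Fin 2) (w : I4 → F) :
    ∃ y ∈ D j, ∀ c : F, y ≠ c • w := by
  by_contra h
  push Not at h
  have h1 : D j ≤ Submodule.span F {w} := by
    intro y hy
    obtain ⟨c, hc⟩ := h y hy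
    rw [hc]
    exact Submodule.smul_mem _ c (Submodule.mem_span_singleton_self _)
  have h2 := Submodule.finrank_mono h1
  rw [hD.finrank_eq] at h2
  have h3 := finrank_span_le_card (R := F) ({w} : Set (I4 → F))
  simp at h3
  omega

theorem exists_perp (hD : IsMDecomposition 2 D)
    (hs : ∀ i, IsTotallySingularFor (sympForm 2 F) (D i)) {i j : Fin 2} (hij : i ≠ j)
    {v : I4 → F} (hv : v ∈ D i) : ∃ w ∈ D j, w ≠ 0 ∧ sympForm 2 F v w = 0 := by
  by_cases h0 : v = 0
  · obtain ⟨x, hx, hx0⟩ := exists_ne hD j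
    exact ⟨x, hx, hx0, by rw [h0, sympForm_zero_left]⟩
  obtain ⟨w, hw, hvw⟩ := exists_one hD hs hij hv h0
  obtain ⟨y, hy, hyw⟩ := exists_off hD j w
  refine ⟨y - (sympForm 2 F v y) • w, (D j).sub_mem hy ((D j).smul_mem _ hw), ?_, ?_⟩
  · intro h
    exact hyw _ (sub_eq_zero.1 h)
  · rw [sympForm_sub_right, sympForm_smul_right, hvw]
    ring

/-- two functionals, each non-zero on a subspace, are simultaneously non-zero somewhere -/
theorem exists_both {W : Submodule F (I4 → F)} (p q : (I4 → F) →ₗ[F] F)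
    (hp : ∃ a ∈ W, p a ≠ 0) (hq : ∃ a ∈ W, q a ≠ 0) : ∃ a ∈ W, p a ≠ 0 ∧ q a ≠ 0 := by
  obtain ⟨a, ha, hpa⟩ := hp
  obtain ⟨b, hb, hqb⟩ := hq
  by_cases h1 : q a = 0
  · by_cases h2 : p b = 0
    · exact ⟨a + b, W.add_mem ha hb, by rw [map_add, h2, add_zero]; exact hpa,
        by rw [map_add, h1, zero_add]; exact hqb⟩
    · exact ⟨b, hb, h2, hqb⟩
  · exact ⟨a, ha, hpa, h1⟩

/-- elements given by a linear isometry preserving both summands -/
theorem exists_mem (hD : IsMDecomposition 2 D) (φ : (I4 → F) →ₗ[F] (I4 → F))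
    (h : ∀ x y, sympForm 2 F (φ x) (φ y) = sympForm 2 F x y) (hφ : ∀ i, ∀ x ∈ D i, φ x ∈ D i) :
    ∃ g ∈ decompositionStabilizer D ⊓ spGL 2 F, ∀ x, (g : Matrix I4 I4 F) *ᵥ x = φ x := by
  obtain ⟨g, hg, hgx⟩ := exists_sp φ h
  refine ⟨g, ⟨mem_stab_of 1 hD (fun i x hx => ?_), hg⟩, hgx⟩
  rw [hgx]
  exact hφ i x hx

/-- the diagonal element `λ, λ⁻¹` on `v₀, v₁` -/
theorem exists_diag (hD : IsMDecomposition 2 D)
    (hs : ∀ i, IsTotallySingularFor (sympForm 2 F) (D i)) {i j : Fin 2} (hij : i ≠ j)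
    {v w : I4 → F} (hv : v ∈ D i) (hw : w ∈ D j) (h1 : sympForm 2 F v w = 1) {l m : F}
    (hlm : l * m = 1) : ∃ g ∈ decompositionStabilizer D ⊓ spGL 2 F, ∀ x,
      (g : Matrix I4 I4 F) *ᵥ x = two v w ((l - 1) • fr w) ((1 - m) • fr v) x := by
  apply exists_mem hD
  · intro x y
    simp only [two_apply, LinearMap.smul_apply, fr_apply, smul_eq_mul, sympForm_add_left,
      sympForm_add_right, sympForm_smul_left, sympForm_smul_right, sympForm_self,
      sympForm_swap v y, sympForm_swap w y, sympForm_swap w v, h1]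
    linear_combination (sympForm 2 F x v * sympForm 2 F y w -
      sympForm 2 F x w * sympForm 2 F y v) * hlm
  · intro a x hx
    have ha : a = i ∨ a = j := fin2_or i j hij a
    rw [two_apply]
    rcases ha with rfl | rfl
    · rw [LinearMap.smul_apply, LinearMap.smul_apply, fr_apply, fr_apply, hs _ x hx v hv,
        smul_zero, zero_smul, add_zero]
      exact (D a).add_mem hx ((D a).smul_mem _ hv)
    · rw [LinearMap.smul_apply, LinearMap.smul_apply, fr_apply, fr_apply, hs _ x hx w hw,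
        smul_zero, zero_smul, add_zero]
      exact (D a).add_mem hx ((D a).smul_mem _ hw)

theorem exists_l [Fintype F] (h5 : 5 ≤ Fintype.card F) :
    ∃ l m : F, l * m = 1 ∧ l ^ 2 ≠ 1 := by
  classical
  obtain ⟨c, hc0, hc1⟩ : ∃ c : F, c ≠ 0 ∧ c ^ 2 ≠ 1 := by
    by_contra hcon
    push Not at hcon
    have hsub : (Finset.univ : Finset F) ⊆ {0, 1, -1} := by
      intro c _
      by_cases h : c = 0
      · simp [h]
      · have := hcon c h
        rw [sq_eq_one_iff] at this
        rcases this with h | h <;> simp [h]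
    have := Finset.card_le_card hsub
    have h3 : ({0, 1, -1} : Finset F).card ≤ 3 := Finset.card_le_three
    rw [Finset.card_univ] at this
    omega
  exact ⟨c, c⁻¹, mul_inv_cancel₀ hc0, hc1⟩

/-! ### `T3 ⊄ T2` -/

theorem T3_T2 [Fintype F] (h5 : 5 ≤ Fintype.card F) (hodd : Odd (Fintype.card F))
    (hD : IsMDecomposition 2 D) (hs : ∀ i, IsTotallySingularFor (sympForm 2 F) (D i))
    {L : Subgroup (GL I4 F)} (hL : T2 L) (hle : decompositionStabilizer D ⊓ spGL 2 F ≤ L) :
    False := by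
  have h2 := two_ne_zero_of_odd hodd
  obtain ⟨z, hzz, hzf, hw0, hw1, hdec, hzL⟩ := exists_invol hL
  obtain ⟨l, m, hlm, hl⟩ := exists_l h5
  -- every vector of `D i` is an eigenvector
  have eig : ∀ i j : Fin 2, i ≠ j → ∀ v ∈ D i, ∃ A : F, z v = A • v := by
    intro i j hij v hv
    by_cases hv0 : v = 0
    · exact ⟨0, by rw [hv0, map_zero, smul_zero]⟩
    obtain ⟨u, hu, hvu⟩ := exists_one hD hs hij hv hv0
    obtain ⟨w, hw, hw0, hvw⟩ := exists_perp hD hs hij hv
    have key : ∀ u ∈ D j, sympForm 2 F v u = 1 → ∃ A : F, z v = A • v +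
        (sympForm 2 F v (z v)) • u := by
      intro u hu hvu
      obtain ⟨g, hg, hgx⟩ := exists_diag hD hs hij hv hu hvu hlm
      have e := hzL g (hle hg) v
      simp only [hgx] at e
      have e1 : two v u ((l - 1) • fr u) ((1 - m) • fr v) v = l • v := by
        rw [two_apply, LinearMap.smul_apply, LinearMap.smul_apply, fr_apply, fr_apply, hvu,
          sympForm_self]
        simp only [smul_eq_mul, mul_one, mul_zero, zero_smul, add_zero]
        module
      obtain ⟨P, R, hPR⟩ := two_two v u ((l - 1) • fr u) ((1 - m) • fr v) (z v)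
      rw [hPR, e1, map_smul, e1, map_smul, map_smul] at e
      have hne : l ^ 2 - 1 ≠ 0 := sub_ne_zero.2 hl
      have e2 : (l ^ 2 - 1) • z v = P • v + R • u := by
        linear_combination (norm := module) e
      have e3 : z v = ((l ^ 2 - 1)⁻¹ * P) • v + ((l ^ 2 - 1)⁻¹ * R) • u := by
        have := congrArg (fun y => (l ^ 2 - 1)⁻¹ • y) e2
        simp only [smul_smul, inv_mul_cancel₀ hne, one_smul, smul_add] at this
        exact this
      have e4 : sympForm 2 F v (z v) = (l ^ 2 - 1)⁻¹ * R := by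
        rw [e3, sympForm_add_right, sympForm_smul_right, sympForm_smul_right, sympForm_self, hvu]
        ring
      refine ⟨(l ^ 2 - 1)⁻¹ * P, ?_⟩
      rw [e4]
      exact e3
    obtain ⟨A, hA⟩ := key u hu hvu
    obtain ⟨A', hA'⟩ := key (u + w) ((D j).add_mem hu hw) (by rw [sympForm_add_right, hvu, hvw,
      add_zero])
    have e1 : (A - A') • v = (sympForm 2 F v (z v)) • w := by
      linear_combination (norm := module) hA' - hA
    have e2 : (sympForm 2 F v (z v)) • w = 0 := by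
      apply inter hD hij _ ((D j).smul_mem _ hw)
      rw [← e1]
      exact (D i).smul_mem _ hv
    have e3 := (smul_eq_zero.1 e2).resolve_right hw0
    rw [e3, zero_smul, add_zero] at hA
    exact ⟨A, hA⟩
  -- the operator `k`
  let k : (I4 → F) →ₗ[F] (I4 → F) := LinearMap.ofIsCompl (isCompl hD) (D 0).subtype
    (-(D 1).subtype)
  have hk : ∀ a ∈ D 0, ∀ b ∈ D 1, k (a + b) = a - b := by
    intro a ha b hb
    have h0 : k a = a := LinearMap.ofIsCompl_apply_left (isCompl hD) (⟨a, ha⟩ : D 0)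
    have h1 : k b = -b := LinearMap.ofIsCompl_apply_right (isCompl hD) (⟨b, hb⟩ : D 1)
    rw [map_add, h0, h1, sub_eq_add_neg]
  have hQ : ∀ a ∈ D 0, ∀ b ∈ D 1, sympForm 2 F (a + b) (k (a + b)) = -(2 * sympForm 2 F a b) := by
    intro a ha b hb
    rw [hk a ha b hb, sympForm_add_left, sympForm_sub_right, sympForm_sub_right, sympForm_self,
      sympForm_self, sympForm_swap b a]
    ring
  have hz : ∀ v, sympForm 2 F v (k v) = 0 := by
    apply quad_zero h5 h2 z k hw0 hw1 hdec
    intro v hv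
    obtain ⟨a, ha, b, hb, rfl⟩ := exists_add hD v
    rw [hQ a ha b hb] at hv
    have hab : sympForm 2 F a b ≠ 0 := by
      intro h
      rw [h] at hv
      simp at hv
    obtain ⟨A, hA⟩ := eig 0 1 (by decide) a ha
    obtain ⟨B, hB⟩ := eig 1 0 (by decide) b hb
    have hAB : A * B = 1 := by
      have := hzf a b
      rw [hA, hB, sympForm_smul_left, sympForm_smul_right] at this
      have h3 : (A * B - 1) * sympForm 2 F a b = 0 := by linear_combination this
      have := (mul_eq_zero.1 h3).resolve_right hab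
      linear_combination this
    have hA2 : A ^ 2 = 1 := by
      have h3 := hzz a
      rw [hA, map_smul, hA, smul_smul] at h3
      have h4 : (A * A - 1) • a = 0 := by rw [sub_smul, h3, one_smul, sub_self]
      have ha0 : a ≠ 0 := by
        rintro rfl
        exact hab (sympForm_zero_left _)
      have := (smul_eq_zero.1 h4).resolve_right ha0
      linear_combination this
    have hBA : B = A := by
      have hA0 : A ≠ 0 := by
        rintro rfl
        simp at hAB
      apply mul_left_cancel₀ hA0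
      rw [hAB, ← pow_two, hA2]
    rw [map_add, hA, hB, hBA, ← smul_add]
    rcases sq_eq_one_iff.1 hA2 with h | h
    · left; rw [h, one_smul]
    · right; rw [h, neg_one_smul]
  obtain ⟨a, ha, ha0⟩ := exists_ne hD 0
  obtain ⟨b, hb, hab⟩ := exists_one hD hs (show (0 : Fin 2) ≠ 1 by decide) ha ha0
  have := hz (a + b)
  rw [hQ a ha b hb, hab, mul_one, neg_eq_zero] at this
  exact h2 this

/-! ### Irreducibility -/

/-- a basis of `D i` -/
theorem span_two (hD : IsMDecomposition 2 D) {i : Fin 2} {v w : I4 → F} (hv : v ∈ D i)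
    (hw : w ∈ D i) (hli : ∀ s t : F, s • v + t • w = 0 → s = 0 ∧ t = 0) :
    ∀ x ∈ D i, ∃ a b : F, x = a • v + b • w := by
  intro x hx
  have hli' : LinearIndependent F ![v, w] := by
    rw [LinearIndependent.pair_iff]
    exact hli
  have h1 : Submodule.span F (Set.range ![v, w]) ≤ D i := by
    rw [Submodule.span_le]
    rintro x ⟨j, rfl⟩
    fin_cases j
    · exact hv
    · exact hw
  have h2 : Submodule.span F (Set.range ![v, w]) = D i := by
    apply Submodule.eq_of_le_of_finrank_eq h1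
    rw [finrank_span_eq_card hli', Fintype.card_fin, hD.finrank_eq]
  rw [← h2, show Set.range ![v, w] = {v, w} by
    simp only [Matrix.range_cons, Matrix.range_empty, Set.union_empty]
    rfl, Submodule.mem_span_pair] at hx
  obtain ⟨α, β, h⟩ := hx
  exact ⟨α, β, h.symm⟩

/-- the swap with `v ↦ w` -/
theorem exists_swap (hD : IsMDecomposition 2 D)
    (hs : ∀ i, IsTotallySingularFor (sympForm 2 F) (D i)) {i j : Fin 2} (hij : i ≠ j)
    {v : I4 → F} (hv : v ∈ D i) (hv0 : v ≠ 0) :
    ∃ g ∈ decompositionStabilizer D ⊓ spGL 2 F, sympForm 2 F v ((g : Matrix I4 I4 F) *ᵥ v) = 1 := by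
  obtain ⟨v1, hv1, h11⟩ := exists_one hD hs hij hv hv0
  obtain ⟨w, hw, hw0, h3⟩ := exists_perp hD hs hij.symm hv1
  obtain ⟨y, hy, hwy⟩ := exists_one hD hs hij hw hw0
  have hwv1 : sympForm 2 F w v1 = 0 := by rw [sympForm_swap, h3, neg_zero]
  set w1 := y - (sympForm 2 F v y) • v1 with hw1def
  have hw1 : w1 ∈ D j := (D j).sub_mem hy ((D j).smul_mem _ hv1)
  have hvw1 : sympForm 2 F v w1 = 0 := by
    rw [hw1def, sympForm_sub_right, sympForm_smul_right, h11]
    ring
  have hww1 : sympForm 2 F w w1 = 1 := by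
    rw [hw1def, sympForm_sub_right, sympForm_smul_right, hwv1, hwy]
    ring
  have hvw : sympForm 2 F v w = 0 := hs i v hv w hw
  have hv1w1 : sympForm 2 F v1 w1 = 0 := hs j v1 hv1 w1 hw1
  have hli1 : ∀ s t : F, s • v + t • w = 0 → s = 0 ∧ t = 0 := by
    intro s t h
    have e1 := congrArg (fun x => sympForm 2 F x v1) h
    have e2 := congrArg (fun x => sympForm 2 F x w1) h
    simp only [sympForm_add_left, sympForm_smul_left, h11, hwv1, hvw1, hww1,
      sympForm_zero_left, mul_one, mul_zero, add_zero, zero_add] at e1 e2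
    exact ⟨e1, e2⟩
  have hli2 : ∀ s t : F, s • v1 + t • w1 = 0 → s = 0 ∧ t = 0 := by
    intro s t h
    have e1 := congrArg (fun x => sympForm 2 F v x) h
    have e2 := congrArg (fun x => sympForm 2 F w x) h
    simp only [sympForm_add_right, sympForm_smul_right, h11, hwv1, hvw1, hww1,
      sympForm_zero_right, mul_one, mul_zero, add_zero, zero_add] at e1 e2
    exact ⟨e1, e2⟩
  have hexp : ∀ x, x = sympForm 2 F x v1 • v - sympForm 2 F x v • v1 +
      (sympForm 2 F x w1 • w - sympForm 2 F x w • w1) := by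
    intro x
    obtain ⟨a, ha, b, hb, rfl⟩ := exists_add' hD hij x
    obtain ⟨a1, a2, rfl⟩ := span_two hD hv hw hli1 a ha
    obtain ⟨b1, b2, rfl⟩ := span_two hD hv1 hw1 hli2 b hb
    simp only [sympForm_add_left, sympForm_smul_left, sympForm_self, h11, hwv1, hvw1, hww1, hvw,
      hv1w1, sympForm_swap v1 v, sympForm_swap w v, sympForm_swap w1 v1, sympForm_swap w1 w,
      sympForm_swap v1 w, sympForm_swap w1 v]
    module
  let φ : (I4 → F) →ₗ[F] (I4 → F) :=
    (fr v1).smulRight v1 + (fr v).smulRight v + ((fr w1).smulRight w1 + (fr w).smulRight w)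
  have hφ : ∀ x, φ x = sympForm 2 F x v1 • v1 + sympForm 2 F x v • v +
      (sympForm 2 F x w1 • w1 + sympForm 2 F x w • w) := fun x => rfl
  obtain ⟨g, hg, hgx⟩ := exists_sp φ (by
    intro x y
    conv_rhs => rw [hexp x]
    rw [hφ, hφ]
    simp only [sympForm_add_left, sympForm_add_right, sympForm_sub_left, sympForm_smul_left,
      sympForm_smul_right, sympForm_self, h11, hwv1, hvw1, hww1, hvw,
      hv1w1, sympForm_swap v1 v, sympForm_swap w v, sympForm_swap w1 v1, sympForm_swap w1 w,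
      sympForm_swap v1 w, sympForm_swap w1 v, sympForm_swap v y, sympForm_swap v1 y,
      sympForm_swap w y, sympForm_swap w1 y]
    ring)
  refine ⟨g, ⟨mem_stab_of (Equiv.swap i j) hD (fun a x hx => ?_), hg⟩, ?_⟩
  · have ha : a = i ∨ a = j := fin2_or i j hij a
    rw [hgx, hφ]
    rcases ha with rfl | rfl
    · rw [Equiv.swap_apply_left, hs _ x hx v hv, hs _ x hx w hw, zero_smul, zero_smul, add_zero,
        add_zero]
      exact (D j).add_mem ((D j).smul_mem _ hv1) ((D j).smul_mem _ hw1)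
    · rw [Equiv.swap_apply_right, hs _ x hx v1 hv1, hs _ x hx w1 hw1, zero_smul, zero_smul,
        zero_add, zero_add]
      exact (D i).add_mem ((D i).smul_mem _ hv) ((D i).smul_mem _ hw)
  · rw [hgx, hφ]
    simp only [sympForm_add_right, sympForm_smul_right, sympForm_self, h11, hvw1, hvw]
    ring

theorem three_irr [Fintype F] (h5 : 5 ≤ Fintype.card F)
    (hD : IsMDecomposition 2 D) (hs : ∀ i, IsTotallySingularFor (sympForm 2 F) (D i))
    {L : Subgroup (GL I4 F)} (hL : T1 L) (hle : decompositionStabilizer D ⊓ spGL 2 F ≤ L) :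
    False := by
  obtain ⟨W, hW, hts, rfl⟩ := hL
  obtain ⟨w, hw, hw0⟩ := Submodule.exists_mem_ne_zero_of_ne_bot hW
  obtain ⟨l, m, hlm, hl⟩ := exists_l h5
  have swap : ∀ i j : Fin 2, i ≠ j → w ∉ D i := by
    intro i j hij hwi
    obtain ⟨g, hg, hgw⟩ := exists_swap hD hs hij hwi hw0
    have h1 : (g : Matrix I4 I4 F) *ᵥ w ∈ W := ((hle hg).1 w).1 hw
    rw [hts w hw _ h1] at hgw
    exact zero_ne_one hgw
  obtain ⟨a, ha, b, hb, hab⟩ := exists_add hD w
  have ha0 : a ≠ 0 := by
    rintro rfl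
    apply swap 1 0 (by decide)
    rw [hab, zero_add]
    exact hb
  have hb0 : b ≠ 0 := by
    rintro rfl
    apply swap 0 1 (by decide)
    rw [hab, add_zero]
    exact ha
  -- choose `v ∈ D 0`, `u ∈ D 1`
  obtain ⟨u, hu, hau⟩ := exists_one hD hs (show (0 : Fin 2) ≠ 1 by decide) ha ha0
  have hu0 : u ≠ 0 := by
    rintro rfl
    rw [sympForm_zero_right] at hau
    exact zero_ne_one hau
  obtain ⟨v1, hv1, hbv⟩ := exists_one hD hs (show (1 : Fin 2) ≠ 0 by decide) hb hb0
  obtain ⟨v, hv, hv2, hv3⟩ := exists_both (W := D 0) (fr b) (fr u)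
    ⟨v1, hv1, by rw [fr_apply, sympForm_swap, hbv]; exact neg_ne_zero.2 one_ne_zero⟩
    ⟨a, ha, by rw [fr_apply, hau]; exact one_ne_zero⟩
  rw [fr_apply] at hv2 hv3
  set c := sympForm 2 F v u with hc
  have hcu : c⁻¹ • u ∈ D 1 := (D 1).smul_mem _ hu
  have h1 : sympForm 2 F v (c⁻¹ • u) = 1 := by
    rw [sympForm_smul_right, ← hc, inv_mul_cancel₀ hv3]
  obtain ⟨g, hg, hgx⟩ := exists_diag hD hs (show (0 : Fin 2) ≠ 1 by decide) hv hcu h1 hlm
  have h3 : (g : Matrix I4 I4 F) *ᵥ w ∈ W := ((hle hg).1 w).1 hw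
  have h4 := hts _ h3 _ hw
  rw [hgx, two_apply, LinearMap.smul_apply, LinearMap.smul_apply, fr_apply, fr_apply, hab] at h4
  simp only [sympForm_add_left, sympForm_add_right, sympForm_smul_left, sympForm_smul_right,
    smul_eq_mul, sympForm_self, hs 0 a ha v hv, hs 0 v hv a ha, hs 1 u hu b hb, hs 1 b hb u hu,
    hau, sympForm_swap u a, sympForm_swap b a, sympForm_swap b v] at h4
  have h5' : c⁻¹ * sympForm 2 F v b * (l - m) = 0 := by
    linear_combination h4
  have hlm' : l - m ≠ 0 := by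
    intro h
    apply hl
    have : m = l := by linear_combination -h
    rw [this] at hlm
    rw [pow_two, hlm]
  exact mul_ne_zero (mul_ne_zero (inv_ne_zero hv3) hv2) hlm' h5'

theorem two_irr {M L : Subgroup (GL I4 F)} (hM : T2 M) (hL : T1 L) (hML : M ≤ L) : False := by
  obtain ⟨W, hW, hts, rfl⟩ := hL
  obtain ⟨w, hw, hw0⟩ := Submodule.exists_mem_ne_zero_of_ne_bot hW
  obtain ⟨E, hE, rfl⟩ := hM
  have key : ∀ i, ∀ v ∈ E i, sympForm 2 F w v = 0 := by
    intro i v hv
    obtain ⟨g, hg, hgx⟩ := exists_mem hE.decomp (two v v (fr v) 0) (by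
      intro x y
      simp only [two_apply, fr_apply, LinearMap.zero_apply, sympForm_add_left,
        sympForm_add_right, sympForm_smul_left, sympForm_smul_right, sympForm_self,
        sympForm_swap v y]
      ring) (by
      intro a x hx
      rw [two_apply, LinearMap.zero_apply, zero_smul, add_zero, fr_apply]
      by_cases hai : a = i
      · subst hai
        exact (E a).add_mem hx ((E a).smul_mem _ hv)
      · rw [hE.orthogonal a i hai x hx v hv, zero_smul, add_zero]
        exact hx)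
    have h3 : (g : Matrix I4 I4 F) *ᵥ w ∈ W := ((hML hg).1 w).1 hw
    have h4 := hts _ h3 _ hw
    rw [hgx, two_apply, LinearMap.zero_apply, zero_smul, add_zero, fr_apply, sympForm_add_left,
      sympForm_self, sympForm_smul_left, sympForm_swap v w, zero_add, mul_neg, neg_eq_zero,
      mul_self_eq_zero] at h4
    exact h4
  apply hw0
  apply eq_zero_of_forall_sympForm_right
  intro x
  obtain ⟨a, ha, b, hb, rfl⟩ := exists_add hE.decomp x
  rw [sympForm_add_right, key 0 a ha, key 1 b hb, add_zero]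

theorem irr_T2 [Fintype F] (h2 : (2 : F) ≠ 0) {M L : Subgroup (GL I4 F)}
    (hM : T2 M ∨ T3 M ∨ T4 M ∨ T5 M) (hL : T1 L) (hML : M ≤ L) : False := by
  rcases hM with hM | hM | hM | hM
  · exact two_irr hM hL hML
  · obtain ⟨h5, D, hD, hs, rfl⟩ := hM
    exact three_irr h5 hD hs hL hML
  · obtain ⟨K, hK, hsa, -, rfl⟩ := hM
    obtain ⟨k, d, hkk, hs, hd0, hg⟩ := four_data h2 hK hsa
    exact four_irr h2 hkk hs hd0 hg hML hL
  · obtain ⟨h5, K, hK, hac, hns, rfl⟩ := hM
    obtain ⟨k, d, hkk, hs, hd0, hd, ⟨x, hx⟩, hg⟩ := five_data h2 hK hac hns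
    exact hx (five_irr h5 h2 hkk hs hd0 hd hg hML hL x)

end Cfsg.Agent.H64.Sp4Three
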