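import Cfsg.Agent.H64.Sp4Core
import Cfsg.Agent.H920.Basic

/-!
# Non-containments between the geometric types of `Sp₄(F)` (helper64, S5786 task 606)
-/

set_option autoImplicit false

namespace Cfsg.Agent.H64.Sp4Types

open Cfsg Cfsg.Geo Matrix
open Cfsg.Agent.H909.Sp4List Cfsg.Agent.H64.Sp4Base Cfsg.Agent.H64.Sp4Core
open Cfsg.Agent.ClassicalGeometry.SympBasic

universe u
variable {F : Type u} [Field F]

/-! ### Quadratic subfields of the matrix algebra -/

theorem span_pair {K : Subalgebra F (Matrix I4 I4 F)} (hK : IsFieldSubalgebra 2 K)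
    {k : Matrix I4 I4 F} (hk : k ∈ K) (hns : ∀ c : F, k ≠ c • (1 : Matrix I4 I4 F)) :
    ∀ a ∈ K, ∃ α β : F, a = α • (1 : Matrix I4 I4 F) + β • k := by
  intro a ha
  have hli : LinearIndependent F ![(1 : Matrix I4 I4 F), k] := by
    rw [LinearIndependent.pair_iff]
    intro s t h
    by_cases ht : t = 0
    · rw [ht, zero_smul, add_zero, smul_eq_zero] at h
      exact ⟨h.resolve_right one_ne_zero, ht⟩
    · exfalso
      apply hns (-(t⁻¹ * s))
      have h1 : t • k = -(s • (1 : Matrix I4 I4 F)) := by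
        rw [eq_neg_iff_add_eq_zero, add_comm, h]
      have h2 := congrArg (fun y => t⁻¹ • y) h1
      simp only [smul_smul, inv_mul_cancel₀ ht, one_smul, smul_neg] at h2
      rw [h2, neg_smul]
  have h1 : Submodule.span F (Set.range ![(1 : Matrix I4 I4 F), k]) ≤
      Subalgebra.toSubmodule K := by
    rw [Submodule.span_le]
    rintro x ⟨i, rfl⟩
    fin_cases i
    · exact K.one_mem
    · exact hk
  have h2 : Submodule.span F (Set.range ![(1 : Matrix I4 I4 F), k]) =
      Subalgebra.toSubmodule K := by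
    apply Submodule.eq_of_le_of_finrank_eq h1
    rw [finrank_span_eq_card hli, Fintype.card_fin]
    exact hK.finrank_eq.symm
  have h3 : a ∈ Submodule.span F (Set.range ![(1 : Matrix I4 I4 F), k]) := by
    rw [h2]; exact ha
  rw [show Set.range ![(1 : Matrix I4 I4 F), k] = {1, k} by
    simp [Matrix.range_cons, Matrix.range_empty, Set.union_comm], Submodule.mem_span_pair] at h3
  obtain ⟨α, β, h⟩ := h3
  exact ⟨α, β, h.symm⟩

theorem nonsq {K : Subalgebra F (Matrix I4 I4 F)} (hK : IsFieldSubalgebra 2 K)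
    {k : Matrix I4 I4 F} (hk : k ∈ K) (hns : ∀ c : F, k ≠ c • (1 : Matrix I4 I4 F)) {d : F}
    (hkk : k * k = d • (1 : Matrix I4 I4 F)) : (∀ c : F, c ^ 2 * d ≠ 1) ∧ d ≠ 0 := by
  constructor
  · intro c hc
    have hc0 : c ≠ 0 := by
      rintro rfl
      simp at hc
    have h1 : (c • k - 1) * (c • k + 1) = 0 := by
      have : (c • k - 1) * (c • k + 1) = (c ^ 2) • (k * k) - 1 := by
        rw [sub_mul, mul_add, mul_one, one_mul, smul_mul_smul_comm, ← pow_two]
        abel
      rw [this, hkk, smul_smul, hc, one_smul, sub_self]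
    have h2 : c • k + 1 ≠ 0 := by
      intro h
      apply hns (-c⁻¹)
      have h3 : c • k = -1 := eq_neg_of_add_eq_zero_left h
      have h4 := congrArg (fun y => c⁻¹ • y) h3
      simp only [smul_smul, inv_mul_cancel₀ hc0, one_smul, smul_neg] at h4
      rw [h4, neg_smul]
    obtain ⟨y, -, hy⟩ := hK.inv _ (K.add_mem (K.smul_mem hk c) K.one_mem) h2
    have h3 : c • k - 1 = 0 := by
      have := congrArg (fun w => w * y) h1
      simpa only [mul_assoc, hy, mul_one, zero_mul] using this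
    apply hns c⁻¹
    have h4 := congrArg (fun y => c⁻¹ • y) (sub_eq_zero.1 h3)
    simp only [smul_smul, inv_mul_cancel₀ hc0, one_smul] at h4
    exact h4
  · rintro rfl
    rw [zero_smul] at hkk
    have h0 : k ≠ 0 := by
      intro h
      exact hns 0 (by rw [h, zero_smul])
    obtain ⟨y, -, hy⟩ := hK.inv k hk h0
    apply h0
    have := congrArg (fun w => w * y) hkk
    simpa only [mul_assoc, hy, mul_one, zero_mul] using this

theorem mem_normalizer {K : Subalgebra F (Matrix I4 I4 F)} {k : Matrix I4 I4 F}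
    (hspan : ∀ a ∈ K, ∃ α β : F, a = α • (1 : Matrix I4 I4 F) + β • k) {g : GL I4 F}
    (hg : (g : Matrix I4 I4 F) * k = k * (g : Matrix I4 I4 F)) : g ∈ subalgebraNormalizer K := by
  have h1 : ∀ a ∈ K, (g : Matrix I4 I4 F) * a = a * (g : Matrix I4 I4 F) := by
    intro a ha
    obtain ⟨α, β, rfl⟩ := hspan a ha
    rw [mul_add, add_mul, mul_smul_comm, mul_smul_comm, smul_mul_assoc, smul_mul_assoc, hg,
      mul_one, one_mul]
  have e1 : (g : Matrix I4 I4 F) * ((g⁻¹ : GL I4 F) : Matrix I4 I4 F) = 1 := by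
    rw [← Units.val_mul, mul_inv_cancel, Units.val_one]
  have e2 : ((g⁻¹ : GL I4 F) : Matrix I4 I4 F) * (g : Matrix I4 I4 F) = 1 := by
    rw [← Units.val_mul, inv_mul_cancel, Units.val_one]
  intro a
  constructor
  · intro ha
    rw [h1 a ha, mul_assoc, e1, mul_one]
    exact ha
  · intro ha
    have h2 := h1 _ ha
    have h4 : (g : Matrix I4 I4 F) * ((g : Matrix I4 I4 F) * a *
        ((g⁻¹ : GL I4 F) : Matrix I4 I4 F)) = (g : Matrix I4 I4 F) * a := by
      rw [h2, mul_assoc ((g : Matrix I4 I4 F) * a), e2, mul_one]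
    have h5 := congrArg (fun y => ((g⁻¹ : GL I4 F) : Matrix I4 I4 F) * y) h4
    simp only [← mul_assoc, e2, one_mul] at h5
    rw [← h5]
    exact ha

/-- data of type `T5` -/
theorem five_data {K : Subalgebra F (Matrix I4 I4 F)} (h2 : (2 : F) ≠ 0)
    (hK : IsFieldSubalgebra 2 K)
    (hac : IsAdjointClosedFor (sympForm 2 F) K) (hns : ¬ IsSelfAdjointFor (sympForm 2 F) K) :
    ∃ (k : (I4 → F) →ₗ[F] (I4 → F)) (d : F), (∀ x, k (k x) = d • x) ∧
      (∀ x y, sympForm 2 F (k x) y = -sympForm 2 F x (k y)) ∧ d ≠ 0 ∧ (∀ c : F, c ^ 2 * d ≠ 1) ∧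
      (∃ x, sympForm 2 F x (k x) ≠ 0) ∧
      ∀ g ∈ spGL 2 F, (∀ x, (g : Matrix I4 I4 F) *ᵥ (k x) = k ((g : Matrix I4 I4 F) *ᵥ x)) →
        g ∈ subalgebraNormalizer K ⊓ spGL 2 F := by
  have h1 : ∃ a ∈ K, ∃ u v : I4 → F, sympForm 2 F (a *ᵥ u) v ≠ sympForm 2 F u (a *ᵥ v) := by
    by_contra h
    push Not at h
    exact hns h
  obtain ⟨a, ha, u, v, huv⟩ := h1
  obtain ⟨b, hb, hab⟩ := hac a ha
  have hba : ∀ u v, sympForm 2 F (b *ᵥ u) v = sympForm 2 F u (a *ᵥ v) := by
    intro u v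
    rw [sympForm_swap, ← hab, sympForm_swap, neg_neg]
  set k : Matrix I4 I4 F := a - b with hkdef
  have hk : k ∈ K := K.sub_mem ha hb
  have hs : ∀ x y, sympForm 2 F (k *ᵥ x) y = -sympForm 2 F x (k *ᵥ y) := by
    intro x y
    rw [hkdef, Matrix.sub_mulVec, Matrix.sub_mulVec, sympForm_sub_left, sympForm_sub_right, hab,
      hba]
    ring
  have hk0 : ∃ x y, sympForm 2 F (k *ᵥ x) y ≠ 0 := by
    refine ⟨u, v, ?_⟩
    rw [hkdef, Matrix.sub_mulVec, sympForm_sub_left, hba]
    exact sub_ne_zero.2 huv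
  have hnsc : ∀ c : F, k ≠ c • (1 : Matrix I4 I4 F) := by
    intro c hc
    obtain ⟨x, y, hxy⟩ := hk0
    have h3 := hs x y
    rw [hc, Matrix.smul_mulVec, Matrix.smul_mulVec, Matrix.one_mulVec, Matrix.one_mulVec,
      sympForm_smul_left, sympForm_smul_right] at h3
    have h4 : (2 : F) * (c * sympForm 2 F x y) = 0 := by linear_combination h3
    have h5 := (mul_eq_zero.1 h4).resolve_left h2
    rw [hc, Matrix.smul_mulVec, Matrix.one_mulVec, sympForm_smul_left] at hxy
    exact hxy h5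
  have hspan := span_pair hK hk hnsc
  obtain ⟨d, β, hd⟩ := hspan _ (K.mul_mem hk hk)
  have hβ : β = 0 := by
    obtain ⟨x, y, hxy⟩ := hk0
    have h3 : sympForm 2 F ((k * k) *ᵥ x) y = sympForm 2 F x ((k * k) *ᵥ y) := by
      rw [← Matrix.mulVec_mulVec, ← Matrix.mulVec_mulVec, hs, hs, neg_neg]
    rw [hd, Matrix.add_mulVec, Matrix.add_mulVec, Matrix.smul_mulVec, Matrix.smul_mulVec,
      Matrix.smul_mulVec, Matrix.smul_mulVec, Matrix.one_mulVec, Matrix.one_mulVec,
      sympForm_add_left, sympForm_add_right, sympForm_smul_left, sympForm_smul_left,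
      sympForm_smul_right, sympForm_smul_right] at h3
    have h4 : (2 : F) * (β * sympForm 2 F (k *ᵥ x) y) = 0 := by
      linear_combination h3 + β * hs x y
    exact (mul_eq_zero.1 ((mul_eq_zero.1 h4).resolve_left h2)).resolve_right hxy
  rw [hβ, zero_smul, add_zero] at hd
  obtain ⟨hd1, hd0⟩ := nonsq hK hk hnsc hd
  refine ⟨Matrix.toLin' k, d, ?_, ?_, hd0, hd1, ?_, ?_⟩
  · intro x
    rw [Matrix.toLin'_apply, Matrix.toLin'_apply, Matrix.mulVec_mulVec, hd, Matrix.smul_mulVec,
      Matrix.one_mulVec]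
  · intro x y
    rw [Matrix.toLin'_apply, Matrix.toLin'_apply, hs]
  · by_contra hcon
    push Not at hcon
    obtain ⟨x, y, hxy⟩ := hk0
    have e1 := hcon (x + y)
    have e2 := hcon x
    have e3 := hcon y
    simp only [Matrix.toLin'_apply, Matrix.mulVec_add, sympForm_add_left,
      sympForm_add_right] at e1 e2 e3
    have e4 := hs y x
    have e5 : sympForm 2 F y (k *ᵥ x) = -sympForm 2 F (k *ᵥ x) y := sympForm_swap _ _
    have e6 := hs x y
    apply hxy
    have h4 : (2 : F) * sympForm 2 F (k *ᵥ x) y = 0 := by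
      linear_combination e6 + e5 - (e1 - e2 - e3)
    exact (mul_eq_zero.1 h4).resolve_left h2
  · intro g hg hgk
    refine ⟨mem_normalizer hspan ?_, hg⟩
    apply Matrix.toLin'.injective
    refine LinearMap.ext fun x => ?_
    rw [Matrix.toLin'_mul, Matrix.toLin'_mul, LinearMap.comp_apply, LinearMap.comp_apply]
    exact hgk x

/-- data of type `T4` -/
theorem four_data {K : Subalgebra F (Matrix I4 I4 F)} (h2 : (2 : F) ≠ 0)
    (hK : IsFieldSubalgebra 2 K) (hsa : IsSelfAdjointFor (sympForm 2 F) K) :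
    ∃ (k : (I4 → F) →ₗ[F] (I4 → F)) (d : F), (∀ x, k (k x) = d • x) ∧
      (∀ x y, sympForm 2 F (k x) y = sympForm 2 F x (k y)) ∧ d ≠ 0 ∧
      ∀ g ∈ spGL 2 F, (∀ x, (g : Matrix I4 I4 F) *ᵥ (k x) = k ((g : Matrix I4 I4 F) *ᵥ x)) →
        g ∈ subalgebraNormalizer K ⊓ spGL 2 F := by
  -- a non-scalar element
  obtain ⟨a, ha, hns⟩ : ∃ a ∈ K, ∀ c : F, a ≠ c • (1 : Matrix I4 I4 F) := by
    by_contra h
    push Not at h
    have h1 : Subalgebra.toSubmodule K ≤ Submodule.span F {(1 : Matrix I4 I4 F)} := by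
      intro a ha
      obtain ⟨c, hc⟩ := h a ha
      rw [hc]
      exact Submodule.smul_mem _ c (Submodule.mem_span_singleton_self _)
    have h3 := Submodule.finrank_mono h1
    rw [finrank_span_singleton one_ne_zero] at h3
    have h4 : Module.finrank F (Subalgebra.toSubmodule K) = 2 := hK.finrank_eq
    omega
  obtain ⟨x, y, hxy⟩ := span_pair hK ha hns _ (K.mul_mem ha ha)
  set k : Matrix I4 I4 F := a - (y / 2) • (1 : Matrix I4 I4 F) with hkdef
  have hk : k ∈ K := K.sub_mem ha (K.smul_mem K.one_mem _)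
  have hnsc : ∀ c : F, k ≠ c • (1 : Matrix I4 I4 F) := by
    intro c hc
    apply hns (c + y / 2)
    rw [add_smul, ← hc, hkdef, sub_add_cancel]
  have hspan := span_pair hK hk hnsc
  have hd : k * k = (x + y ^ 2 / 4) • (1 : Matrix I4 I4 F) := by
    have h4 : (4 : F) ≠ 0 := by
      rw [show (4 : F) = 2 * 2 by norm_num]
      exact mul_ne_zero h2 h2
    have : k * k = a * a - y • a + (y ^ 2 / 4) • (1 : Matrix I4 I4 F) := by
      rw [hkdef]
      simp only [sub_mul, mul_sub, smul_mul_assoc, mul_smul_comm, mul_one, one_mul, smul_sub,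
        smul_smul]
      have e1 : y / 2 * (y / 2) = y ^ 2 / 4 := by
        field_simp
        ring
      have e2 : (y / 2) • a + (y / 2) • a = y • a := by
        rw [← add_smul]
        congr 1
        field_simp
        ring
      rw [e1, ← e2]
      abel
    rw [this, hxy, add_smul]
    abel
  obtain ⟨-, hd0⟩ := nonsq hK hk hnsc hd
  refine ⟨Matrix.toLin' k, _, ?_, ?_, hd0, ?_⟩
  · intro x
    rw [Matrix.toLin'_apply, Matrix.toLin'_apply, Matrix.mulVec_mulVec, hd, Matrix.smul_mulVec,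
      Matrix.one_mulVec]
  · intro x y
    rw [Matrix.toLin'_apply, Matrix.toLin'_apply, hsa k hk]
  · intro g hg hgk
    refine ⟨mem_normalizer hspan ?_, hg⟩
    apply Matrix.toLin'.injective
    refine LinearMap.ext fun x => ?_
    rw [Matrix.toLin'_mul, Matrix.toLin'_mul, LinearMap.comp_apply, LinearMap.comp_apply]
    exact hgk x

theorem two_ne_zero_of_odd [Fintype F] (hodd : Odd (Fintype.card F)) : (2 : F) ≠ 0 := by
  intro h
  have h1 := FiniteField.even_card_iff_char_two (F := F)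
  have h3 : ringChar F = 2 := by
    have := CharP.exists F
    obtain ⟨p, hp⟩ := this
    have h4 : p ∣ 2 := (CharP.cast_eq_zero_iff F p 2).1 (by exact_mod_cast h)
    have h5 : p ≠ 1 := CharP.char_ne_one F p
    have h6 : p = 2 := by
      have := (Nat.dvd_prime Nat.prime_two).1 h4
      tauto
    rw [← h6]
    exact ringChar.eq F p
  have h4 := h1.1 h3
  rw [Nat.odd_iff] at hodd
  omega

theorem T5_T2 [Fintype F] (h5 : 5 ≤ Fintype.card F) (hodd : Odd (Fintype.card F))
    {K : Subalgebra F (Matrix I4 I4 F)} (hK : IsFieldSubalgebra 2 K)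
    (hac : IsAdjointClosedFor (sympForm 2 F) K) (hns : ¬ IsSelfAdjointFor (sympForm 2 F) K)
    {L : Subgroup (GL I4 F)} (hL : T2 L) (hle : subalgebraNormalizer K ⊓ spGL 2 F ≤ L) :
    False := by
  have h2 := two_ne_zero_of_odd hodd
  obtain ⟨k, d, hkk, hs, hd0, hd, ⟨x, hx⟩, hM⟩ := five_data h2 hK hac hns
  exact hx (five_two h5 h2 hkk hs hd0 hd hM hle hL x)

end Cfsg.Agent.H64.Sp4Types
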