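import Cfsg.Agent.H944.TS.Iface
import Cfsg.Agent.H638.G2Iso
import Cfsg.Agent.H161.G2Emb
import Cfsg.Agent.S1052
import Cfsg.Agent.S1055

/-!
# `G₂(3)` is a subgroup of `Ω₇(3)` (S5741, TEAM EXCSUB, task A9) (helper64)

The automorphism group of the split octonions over `F` preserves the octonions of trace zero, with the quadratic form
`x₀² + x₁x₄ + x₂x₅ + x₃x₆ = -N(x)`.
-/

set_option autoImplicit false
set_option linter.unusedSimpArgs false

namespace Cfsg.Agent.H64.SubG2

open Cfsg Cfsg.Agent.OrdDiv Cfsg.Agent.H944.TS Cfsg.Agent.H161.Oct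
open scoped Matrix

universe u

/-- the index type of the seven-dimensional space -/
abbrev I7 : Type := Unit ⊕ (Fin 3 ⊕ Fin 3)

section Lin

variable (F : Type*) [Field F]

/-- the embedding of the seven-dimensional space -/
def inc : (I7 → F) →ₗ[F] V F where
  toFun v := ![v (.inl ()), v (.inr (.inl 0)), v (.inr (.inl 1)), v (.inr (.inl 2)),
    v (.inr (.inr 0)), v (.inr (.inr 1)), v (.inr (.inr 2)), - v (.inl ())]
  map_add' v w := by
    funext i
    fin_cases i <;> simp [add_comm]
  map_smul' c v := by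
    funext i
    fin_cases i <;> simp

/-- the coordinates -/
def cor : V F →ₗ[F] (I7 → F) where
  toFun x := fun i => match i with
    | .inl _ => x 0
    | .inr (.inl j) => ![x 1, x 2, x 3] j
    | .inr (.inr j) => ![x 4, x 5, x 6] j
  map_add' v w := by
    funext i
    rcases i with _ | j | j
    · rfl
    · fin_cases j <;> rfl
    · fin_cases j <;> rfl
  map_smul' c v := by
    funext i
    rcases i with _ | j | j
    · rfl
    · fin_cases j <;> rfl
    · fin_cases j <;> rfl

variable {F}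

theorem cor_inc (v : I7 → F) : cor F (inc F v) = v := by
  funext i
  rcases i with ⟨⟩ | j | j
  · rfl
  · fin_cases j <;> rfl
  · fin_cases j <;> rfl

theorem tr_inc (v : I7 → F) : tr (inc F v) = 0 := by
  simp [tr, inc]

theorem inc_cor {x : V F} (hx : tr x = 0) : inc F (cor F x) = x := by
  have h7 : x 7 = - x 0 := by
    rw [tr] at hx
    exact eq_neg_of_add_eq_zero_right hx
  funext i
  fin_cases i <;> simp [inc, cor, h7]

theorem quad_eq (v : I7 → F) : quadFormOdd 3 F v = - nm (inc F v) := by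
  simp [quadFormOdd, nm, inc, Fin.sum_univ_three]
  ring

theorem nm_inc_cor {x : V F} (hx : tr x = 0) : quadFormOdd 3 F (cor F x) = - nm x := by
  rw [quad_eq, inc_cor hx]

/-- the action on the octonions of trace zero -/
noncomputable def rho : ↥(AutO F) →* ((I7 → F) →ₗ[F] (I7 → F)) where
  toFun f := (cor F).comp ((f : V F ≃ₗ[F] V F).toLinearMap.comp (inc F))
  map_one' := LinearMap.ext fun v => cor_inc v
  map_mul' f g := by
    refine LinearMap.ext fun v => ?_
    show cor F (f.1 (g.1 (inc F v))) = cor F (f.1 (inc F (cor F (g.1 (inc F v)))))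
    rw [inc_cor]
    rw [map_tr g.2, tr_inc]

theorem rho_apply (f : ↥(AutO F)) (v : I7 → F) : rho f v = cor F (f.1 (inc F v)) := rfl

theorem inc_rho (f : ↥(AutO F)) (v : I7 → F) : inc F (rho f v) = f.1 (inc F v) := by
  rw [rho_apply, inc_cor]
  rw [map_tr f.2, tr_inc]

theorem quad_rho (f : ↥(AutO F)) (v : I7 → F) :
    quadFormOdd 3 F (rho f v) = quadFormOdd 3 F v := by
  rw [quad_eq, quad_eq, inc_rho, map_nm f.2]

/-- in characteristic `≠ 2` the representation is faithful -/
theorem rho_inj (h2 : (2 : F) ≠ 0) : Function.Injective (rho (F := F)) := by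
  rw [injective_iff_map_eq_one]
  intro f hf
  apply Subtype.ext
  refine LinearEquiv.ext fun x => ?_
  show f.1 x = x
  have h0 : ∀ y : V F, tr y = 0 → f.1 y = y := by
    intro y hy
    have h1 := inc_rho f (cor F y)
    rw [hf, inc_cor hy] at h1
    rw [← h1]
    show inc F (cor F y) = y
    exact inc_cor hy
  have hx : x = (x - (tr x / 2) • o) + (tr x / 2) • o := by abel
  rw [hx, map_add, map_smul, map_o f.2, h0]
  rw [sub_eq_add_neg, ← neg_smul, tr_add, tr_smul, tr_o]
  field_simp
  ring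

/-- the representation by matrices -/
noncomputable def rhoG : ↥(AutO F) →* GL I7 F :=
  (LinearMap.toMatrixAlgEquiv' : ((I7 → F) →ₗ[F] (I7 → F)) ≃ₐ[F] Matrix I7 I7 F).toMonoidHom.comp
    rho |>.toHomUnits

theorem rhoG_mulVec (f : ↥(AutO F)) (v : I7 → F) :
    ((rhoG f : GL I7 F) : Matrix I7 I7 F) *ᵥ v = rho f v := by
  show (LinearMap.toMatrixAlgEquiv' (rho f)) *ᵥ v = rho f v
  rw [← Matrix.toLin'_apply]
  exact LinearMap.congr_fun (Matrix.toLinAlgEquiv'_toMatrixAlgEquiv' (rho f)) v

theorem rhoG_inj (h2 : (2 : F) ≠ 0) : Function.Injective (rhoG (F := F)) := by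
  intro f g h
  apply rho_inj h2
  refine LinearMap.ext fun v => ?_
  rw [← rhoG_mulVec, ← rhoG_mulVec, h]

theorem rhoG_mem (f : ↥(AutO F)) : rhoG f ∈ isometryGroup F (quadFormOdd 3 F) := by
  intro v w
  show quadFormOdd 3 F (((rhoG f : GL I7 F) : Matrix I7 I7 F) *ᵥ v) = quadFormOdd 3 F v
  rw [rhoG_mulVec, quad_rho]

/-- into the orthogonal group -/
noncomputable def rhoO : ↥(AutO F) →* ↥(isometryGroup F (quadFormOdd 3 F)) :=
  rhoG.codRestrict _ rhoG_mem

theorem rhoO_inj (h2 : (2 : F) ≠ 0) : Function.Injective (rhoO (F := F)) := by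
  intro f g h
  exact rhoG_inj h2 (congrArg Subtype.val h)

/-- `G₂(F)` into the orthogonal group -/
theorem exists_G2 (h2 : (2 : F) ≠ 0) :
    ∃ f : ↥(Cfsg.Lie.G2 F) →* ↥(isometryGroup F (quadFormOdd 3 F)), Function.Injective f := by
  refine ⟨rhoO.comp ((toE F).toMonoidHom.comp (Cfsg.Lie.G2 F).subtype |>.codRestrict _
    (fun g => toE_mem.2 g.2)), ?_⟩
  rw [MonoidHom.coe_comp]
  refine (rhoO_inj h2).comp ?_
  intro a b hab
  have h1 := congrArg Subtype.val hab
  exact Subtype.ext ((toE F).injective h1)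

end Lin

/-- a nonabelian simple group in the isometry group is in `PΩ` -/
theorem exists_POmega {ι : Type} [Fintype ι] [DecidableEq ι] {F : Type*} [Field F] {Q : (ι → F) → F}
    {G : Type*} [Group G] [IsSimpleGroup G] (hp : commutator G = ⊤)
    (f : G →* ↥(isometryGroup F Q)) (hf : Function.Injective f) :
    ∃ f' : G →* POmega F Q, Function.Injective f' := by
  have hle : ∀ g, f g ∈ Omega F Q := by
    intro g
    have h1 : (commutator G).map f ≤ commutator _ := by
      rw [commutator_def, Subgroup.map_commutator, commutator_def]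
      exact Subgroup.commutator_mono le_top le_top
    exact h1 (Subgroup.mem_map_of_mem f (by rw [hp]; exact Subgroup.mem_top g))
  let f1 : G →* ↥(Omega F Q) := f.codRestrict _ hle
  have hf1 : Function.Injective f1 := fun a b h => hf (congrArg Subtype.val h)
  let f2 : G →* POmega F Q := (QuotientGroup.mk' _).comp f1
  refine ⟨f2, ?_⟩
  rw [← MonoidHom.ker_eq_bot_iff]
  rcases IsSimpleGroup.eq_bot_or_eq_top_of_normal f2.ker inferInstance with h | h
  · exact h
  · exfalso
    have hc : ∀ a : G, f1 a ∈ Subgroup.center ↥(Omega F Q) := by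
      intro a
      have h1 : a ∈ f2.ker := by rw [h]; exact Subgroup.mem_top a
      rw [MonoidHom.mem_ker] at h1
      exact (QuotientGroup.eq_one_iff _).1 h1
    have hcomm : ∀ a b : G, a * b = b * a := by
      intro a b
      apply hf1
      rw [map_mul, map_mul]
      exact (Subgroup.mem_center_iff.1 (hc b) (f1 a))
    have h3 : commutator G = ⊥ := by
      rw [commutator_def, Subgroup.commutator_eq_bot_iff_le_centralizer]
      intro a _
      rw [Subgroup.mem_centralizer_iff]
      intro b _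
      exact hcomm b a
    rw [hp] at h3
    exact bot_ne_top h3.symm

/-- **For `|F|` odd, `G₂(F)` is a subgroup of every group isomorphic to `Ω₇(F)`.** -/
theorem exists_sub {F : Type*} [Field F] [Finite F] (h2 : (2 : F) ≠ 0) {X : Type*} [Group X]
    (e : X ≃* POmega F (quadFormOdd 3 F)) :
    ∃ L : Subgroup X, Nonempty (↥L ≃* ↥(Lie.chevG2.group F)) := by
  have hF : ∃ a : F, a ≠ 0 ∧ a ≠ 1 := by
    refine ⟨2, h2, ?_⟩
    intro h
    have h1 : (1 : F) + 1 = 1 := by rw [one_add_one_eq_two]; exact h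
    exact one_ne_zero (add_eq_left.1 h1)
  obtain ⟨e2⟩ := Cfsg.Agent.H638.G2Iso.equiv (F := F)
  haveI : IsSimpleGroup ↥(Lie.chevG2.group F) := (Cfsg.Agent.S1055.result hF).1
  haveI : IsSimpleGroup ↥(Cfsg.Lie.G2 F) := e2.isSimpleGroup
  have hp0 : commutator ↥(Lie.chevG2.group F) = ⊤ :=
    Cfsg.Agent.S1052.result Lie.chevG2 (by simp) (fun _ => hF)
  have hp : commutator ↥(Cfsg.Lie.G2 F) = ⊤ := by
    have h1 : (commutator ↥(Lie.chevG2.group F)).map e2.symm.toMonoidHom =
        commutator ↥(Cfsg.Lie.G2 F) := by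
      rw [commutator_def, Subgroup.map_commutator, commutator_def, ← MonoidHom.range_eq_map,
        MonoidHom.range_eq_top.2 e2.symm.surjective]
    rw [← h1, hp0, ← MonoidHom.range_eq_map, MonoidHom.range_eq_top.2 e2.symm.surjective]
  obtain ⟨f, hf⟩ := exists_G2 h2
  obtain ⟨f', hf'⟩ := exists_POmega hp f hf
  have hinj : Function.Injective (e.symm.toMonoidHom.comp f') := e.symm.injective.comp hf'
  exact ⟨(e.symm.toMonoidHom.comp f').range, ⟨(MonoidHom.ofInjective hinj).symm.trans e2⟩⟩

/-- **`G₂(3) ≤ Ω₇(3)`.** -/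
theorem sub_oodd_g2 : Sub.{u} (.oodd 3 3) (.g2 3) := by
  intro X _ hX
  obtain ⟨F, i1, i2, hc, ⟨e⟩⟩ := hX
  have h2 : (2 : F) ≠ 0 := by
    intro h
    have h3 : ((3 : ℕ) : F) = 0 := by rw [← hc]; exact Nat.cast_card_eq_zero F
    have h1 : (1 : F) = ((3 : ℕ) : F) - 2 := by push_cast; ring
    rw [h3, h, sub_zero] at h1
    exact one_ne_zero h1
  obtain ⟨L, ⟨hL⟩⟩ := exists_sub h2 e
  exact ⟨L, F, i1, i2, hc, ⟨hL⟩⟩

end Cfsg.Agent.H64.SubG2
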